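import Mathlib
import Cfsg.Agent.SqrtThree82.BaseCert.Four
import Cfsg.Agent.SqrtThree82.BaseCert.Five
import Cfsg.Agent.SqrtThree82.BaseCert.Six
import Cfsg.Agent.SqrtThree82.BaseCert.Seven

/-!
Class numbers of transitive permutation groups of degree 4, 5, 6 and 7
(the base cases of the bound on the number of classes of a permutation group).
-/

namespace Cfsg.Agent.SqrtThree82

open Equiv BaseCert

theorem closure_rotate_swap (k : ℕ) :
    Subgroup.closure ({finRotate (k + 2), Equiv.swap 0 1} : Set (Perm (Fin (k + 2)))) = ⊤ := by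
  have h := Equiv.Perm.closure_cycle_adjacent_swap (isCycle_finRotate (n := k))
    (by simp) (0 : Fin (k + 2))
  have h1 : finRotate (k + 2) (0 : Fin (k + 2)) = 1 := by simp
  rwa [h1] at h

/-- Every subgroup of `S₄` has at most 5 classes. -/
theorem base_four_all (H : Subgroup (Perm (Fin 4))) : Nat.card (ConjClasses H) ≤ 5 := by
  have hA : code (finRotate (2 + 2)) = 209 := by decide +kernel
  have hB : code (Equiv.swap (0 : Fin (2 + 2)) 1) = 1665 := by decide +kernel
  refine BaseCert.classes_le (by norm_num) (closure_rotate_swap 2) (L := Four.tab) ?_ 0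
    (by decide +kernel) H (fun k hk => absurd hk (Nat.not_lt_zero k))
  intro a ha
  rw [hA, hB]
  exact Four.chk a ha

/-- Every subgroup of `S₅` has at most 7 classes. -/
theorem base_five_all (H : Subgroup (Perm (Fin 5))) : Nat.card (ConjClasses H) ≤ 7 := by
  have hA : code (finRotate (3 + 2)) = 2257 := by decide +kernel
  have hB : code (Equiv.swap (0 : Fin (3 + 2)) 1) = 18049 := by decide +kernel
  refine BaseCert.classes_le (by norm_num) (closure_rotate_swap 3) (L := Five.tab) ?_ 0
    (by decide +kernel) H (fun k hk => absurd hk (Nat.not_lt_zero k))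
  intro a ha
  rw [hA, hB]
  exact Five.chk a ha

/-- Every subgroup of `S₆` has at most 11 classes. -/
theorem base_six_all (H : Subgroup (Perm (Fin 6))) : Nat.card (ConjClasses H) ≤ 11 := by
  have hA : code (finRotate (4 + 2)) = 22737 := by decide +kernel
  have hB : code (Equiv.swap (0 : Fin (4 + 2)) 1) = 181889 := by decide +kernel
  refine BaseCert.classes_le (by norm_num) (closure_rotate_swap 4) (L := Six.tab) ?_ 0
    (by decide +kernel) H (fun k hk => absurd hk (Nat.not_lt_zero k))
  intro a ha
  rw [hA, hB]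
  exact Six.chk a ha

/-- A subgroup of `S₇` containing the standard 7-cycle has at most 15 classes. -/
theorem base_seven_cycle (H : Subgroup (Perm (Fin 7))) (h : finRotate 7 ∈ H) :
    Nat.card (ConjClasses H) ≤ 15 := by
  have hA : code (finRotate (5 + 2)) = 219345 := by decide +kernel
  have hB : code (Equiv.swap (0 : Fin (5 + 2)) 1) = 1754753 := by decide +kernel
  refine BaseCert.classes_le (by norm_num) (closure_rotate_swap 5) (L := Seven.tab) ?_ 0
    (by decide +kernel) H (fun k hk => ⟨finRotate (5 + 2), h, ?_⟩)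
  · intro a ha
    rw [hA, hB]
    exact Seven.chk a ha
  · obtain rfl : k = 0 := Nat.lt_one_iff.mp hk
    exact hA

theorem base_four (H : Subgroup (Perm (Fin 4))) [MulAction.IsPretransitive H (Fin 4)] :
    Nat.card (ConjClasses H) ≤ 5 :=
  base_four_all H

theorem base_five (H : Subgroup (Perm (Fin 5))) [MulAction.IsPretransitive H (Fin 5)] :
    Nat.card (ConjClasses H) ≤ 7 :=
  base_five_all H

theorem base_six (H : Subgroup (Perm (Fin 6))) [MulAction.IsPretransitive H (Fin 6)] :
    Nat.card (ConjClasses H) ≤ 15 :=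
  (base_six_all H).trans (by norm_num)

theorem base_seven (H : Subgroup (Perm (Fin 7))) [MulAction.IsPretransitive H (Fin 7)] :
    Nat.card (ConjClasses H) ≤ 22 := by
  have hdvd : 7 ∣ Nat.card H := by
    have h1 := MulAction.index_stabilizer_of_transitive H (0 : Fin 7)
    rw [Nat.card_fin] at h1
    have h2 := Subgroup.index_dvd_card (MulAction.stabilizer H (0 : Fin 7))
    rwa [h1] at h2
  have : Fact (Nat.Prime 7) := ⟨by norm_num⟩
  obtain ⟨⟨σ, hσ⟩, ho⟩ := exists_prime_orderOf_dvd_card' 7 hdvd
  rw [Subgroup.orderOf_mk] at ho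
  have hc : σ.IsCycle := Equiv.Perm.isCycle_of_prime_order'' (by simp; norm_num) (by simpa using ho)
  have hsupp : σ.support.card = 7 := by rw [← hc.orderOf, ho]
  have hconj : IsConj σ (finRotate 7) := by
    rw [Equiv.Perm.isConj_iff_cycleType_eq, hc.cycleType, cycleType_finRotate, hsupp]
  obtain ⟨c, hc'⟩ := isConj_iff.mp hconj
  refine le_trans (BaseCert.card_classes_le_map H c) ?_
  exact (base_seven_cycle _ (Subgroup.mem_map.mpr ⟨σ, hσ, by simpa using hc'⟩)).trans (by norm_num)

end Cfsg.Agent.SqrtThree82
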