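import Mathlib

/-! Tables for the recursion along cycles, generated by a dynamic program. -/

set_option autoImplicit false
set_option maxRecDepth 20000

namespace Cfsg.Agent.SqrtThree82

/-- search trees -/
inductive Tree
  | leaf
  | node (l : Tree) (k v : ℕ) (r : Tree)

def tTree1 : Tree := (.node (.node (.node (.node (.node (.node .leaf 135169 1 .leaf) 135232 1 (.node .leaf 135233 1 .leaf)) 135235 1 (.node (.node .leaf 135296 1 .leaf) 135297 1 .leaf)) 135298 2 (.node (.node (.node .leaf 135299 2 .leaf) 135301 3 .leaf) 135360 1 (.node (.node .leaf 135361 1 .leaf) 135362 2 .leaf))) 135363 2 (.node (.node (.node (.node .leaf 135364 3 .leaf) 135365 3 (.node .leaf 135367 4 .leaf)) 135424 1 (.node (.node .leaf 135425 1 .leaf) 135426 2 .leaf)) 135427 2 (.node (.node (.node .leaf 135428 3 .leaf) 135429 3 .leaf) 135430 5 (.node (.node .leaf 135431 5 .leaf) 135433 8 .leaf)))) 135488 1 (.node (.node (.node (.node (.node .leaf 135489 1 .leaf) 135490 2 (.node .leaf 135491 2 .leaf)) 135492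 3 (.node (.node .leaf 135493 3 .leaf) 135494 5 .leaf)) 135495 5 (.node (.node (.node .leaf 135496 9 .leaf) 135497 8 .leaf) 135499 12 (.node (.node .leaf 135552 1 .leaf) 135553 1 .leaf))) 135554 2 (.node (.node (.node (.node .leaf 135555 2 .leaf) 135556 3 (.node .leaf 135557 3 .leaf)) 135558 5 (.node (.node .leaf 135559 5 .leaf) 135560 9 .leaf)) 135561 9 (.node (.node (.node .leaf 135562 15 .leaf) 135563 14 .leaf) 135565 22 (.node (.node .leaf 135616 1 .leaf) 135617 1 .leaf)))))

def tTree2 : Tree := (.node (.node (.node (.node (.node (.node .leaf 135619 2 .leaf) 135620 3 (.node .leaf 135621 3 .leaf)) 135622 5 (.node (.node .leaf 135623 5 .leaf) 135624 9 .leaf)) 135625 9 (.node (.node (.node .leaf 135626 15 .leaf) 135627 14 .leaf) 135628 25 (.node (.node .leaf 135629 22 .leaf) 135631 34 .leaf))) 135680 1 (.node (.node (.node (.node .leaf 135681 1 .leaf) 135682 2 (.node .leaf 135683 2 .leaf)) 135684 3 (.node (.node .leaf 135685 3 .leaf) 135686 5 .leaf)) 135687 5 (.node (.node (.node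 .leaf 135688 9 .leaf) 135689 9 .leaf) 135690 15 (.node (.node .leaf 135691 15 .leaf) 135692 25 .leaf)))) 135693 24 (.node (.node (.node (.node (.node .leaf 135694 43 .leaf) 135695 40 (.node .leaf 135697 62 .leaf)) 135744 1 (.node (.node .leaf 135745 1 .leaf) 135746 2 .leaf)) 135747 2 (.node (.node (.node .leaf 135748 3 .leaf) 135749 3 .leaf) 135750 5 (.node (.node .leaf 135751 5 .leaf) 135752 9 .leaf))) 135753 9 (.node (.node (.node (.node .leaf 135754 15 .leaf) 135755 15 (.node .leaf 135756 25 .leaf)) 135757 24 (.node (.node .leaf 135758 43 .leaf) 135759 40 .leaf)) 135760 73 (.node (.node (.node .leaf 135761 62 .leaf) 135763 94 .leaf) 135808 1 (.node (.node .leaf 135809 1 .leaf) 135810 2 .leaf)))))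

def tTree3 : Tree := (.node (.node (.node (.node (.node (.node .leaf 135812 3 .leaf) 135813 3 (.node .leaf 135814 5 .leaf)) 135815 5 (.node (.node .leaf 135816 9 .leaf) 135817 9 .leaf)) 135818 15 (.node (.node (.node .leaf 135819 15 .leaf) 135820 25 .leaf) 135821 25 (.node (.node .leaf 135822 43 .leaf) 135823 42 .leaf))) 135824 73 (.node (.node (.node (.node .leaf 135825 70 .leaf) 135826 123 (.node .leaf 135827 112 .leaf)) 135829 174 (.node (.node .leaf 135872 1 .leaf) 135873 1 .leaf)) 135874 2 (.node (.node (.node .leaf 135875 2 .leaf) 135876 3 .leaf) 135877 3 (.node (.node .leaf 135878 5 .leaf) 135879 5 .leaf)))) 135880 9 (.node (.node (.node (.node (.node .leaf 135881 9 .leaf) 135882 15 (.node .leaf 135883 15 .leaf)) 135884 25 (.node (.node .leaf 135885 25 .leaf) 135886 43 .leaf)) 135887 42 (.node (.node (.node .leaf 135888 73 .leaf) 135889 70 .leaf) 135890 123 (.node (.node .leaf 135891 112 .leaf) 135892 209 .leaf))) 135893 182 (.node (.node (.node (.node .leaf 135895 278 .leaf)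 135936 1 (.node .leaf 135937 1 .leaf)) 135938 2 (.node (.node .leaf 135939 2 .leaf) 135940 3 .leaf)) 135941 3 (.node (.node (.node .leaf 135942 5 .leaf) 135943 5 .leaf) 135944 9 (.node (.node .leaf 135945 9 .leaf) 135946 15 .leaf)))))

def tTree4 : Tree := (.node (.node (.node (.node (.node (.node .leaf 135948 25 .leaf) 135949 25 (.node .leaf 135950 43 .leaf)) 135951 42 (.node (.node .leaf 135952 73 .leaf) 135953 71 .leaf)) 135954 123 (.node (.node (.node .leaf 135955 116 .leaf) 135956 209 .leaf) 135957 192 (.node (.node .leaf 135958 355 .leaf) 135959 308 .leaf))) 135961 470 (.node (.node (.node (.node .leaf 136001 1 .leaf) 136003 2 (.node .leaf 136005 3 .leaf)) 136007 5 (.node (.node .leaf 136009 9 .leaf) 136011 15 .leaf)) 136013 25 (.node (.node (.node .leaf 136015 43 .leaf) 136017 72 .leaf) 136019 118 (.node (.node .leaf 136021 196 .leaf) 136023 320 .leaf)))) 136025 512 (.node (.node (.node (.node (.node .leaf 136027 778 .leaf) 136065 1 (.node .leaf 136067 2 .leaf)) 136069 3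 (.node (.node .leaf 136071 5 .leaf) 136073 9 .leaf)) 136075 15 (.node (.node (.node .leaf 136077 25 .leaf) 136079 43 .leaf) 136081 72 (.node (.node .leaf 136083 121 .leaf) 136085 200 .leaf))) 136087 332 (.node (.node (.node (.node .leaf 136089 548 .leaf) 136091 880 (.node .leaf 136093 1342 .leaf)) 137216 1 (.node (.node .leaf 137217 1 .leaf) 137280 1 .leaf)) 137281 1 (.node (.node (.node .leaf 137282 1 .leaf) 137283 1 .leaf) 137344 1 (.node (.node .leaf 137345 1 .leaf) 137346 2 .leaf)))))

def tTree5 : Tree := (.node (.node (.node (.node (.node (.node .leaf 137348 3 .leaf) 137349 2 (.node .leaf 137408 1 .leaf)) 137409 1 (.node (.node .leaf 137410 2 .leaf) 137411 2 .leaf)) 137412 3 (.node (.node (.node .leaf 137413 3 .leaf) 137414 5 .leaf) 137415 4 (.node (.node .leaf 137472 1 .leaf) 137473 1 .leaf))) 137474 2 (.node (.node (.node (.node .leaf 137475 2 .leaf) 137476 3 (.node .leaf 137477 3 .leaf)) 137478 5 (.node (.node .leaf 137479 4 .leaf) 137480 9 .leaf)) 137481 6 (.node (.node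 (.node .leaf 137536 1 .leaf) 137537 1 .leaf) 137538 2 (.node (.node .leaf 137539 2 .leaf) 137540 3 .leaf)))) 137541 3 (.node (.node (.node (.node (.node .leaf 137542 5 .leaf) 137543 5 (.node .leaf 137544 9 .leaf)) 137545 8 (.node (.node .leaf 137546 15 .leaf) 137547 11 .leaf)) 137600 1 (.node (.node (.node .leaf 137601 1 .leaf) 137602 2 .leaf) 137603 2 (.node (.node .leaf 137604 3 .leaf) 137605 3 .leaf))) 137606 5 (.node (.node (.node (.node .leaf 137607 5 .leaf) 137608 9 (.node .leaf 137609 8 .leaf)) 137610 15 (.node (.node .leaf 137611 12 .leaf) 137612 25 .leaf)) 137613 18 (.node (.node (.node .leaf 137664 1 .leaf) 137665 1 .leaf) 137666 2 (.node (.node .leaf 137667 2 .leaf) 137668 3 .leaf)))))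

def tTree6 : Tree := (.node (.node (.node (.node (.node (.node .leaf 137670 5 .leaf) 137671 5 (.node .leaf 137672 9 .leaf)) 137673 9 (.node (.node .leaf 137674 15 .leaf) 137675 14 .leaf)) 137676 25 (.node (.node (.node .leaf 137677 22 .leaf) 137678 41 .leaf) 137679 32 (.node (.node .leaf 137728 1 .leaf) 137729 1 .leaf))) 137730 2 (.node (.node (.node (.node .leaf 137731 2 .leaf) 137732 3 (.node .leaf 137733 3 .leaf)) 137734 5 (.node (.node .leaf 137735 5 .leaf) 137736 9 .leaf)) 137737 9 (.node (.node (.node .leaf 137738 15 .leaf) 137739 14 .leaf) 137740 25 (.node (.node .leaf 137741 22 .leaf) 137742 43 .leaf)))) 137743 32 (.node (.node (.node (.node (.node .leaf 137744 69 .leaf) 137745 48 (.node .leaf 137792 1 .leaf)) 137793 1 (.node (.node .leaf 137794 2 .leaf) 137795 2 .leaf)) 137796 3 (.node (.node (.node .leaf 137797 3 .leaf) 137798 5 .leaf) 137799 5 (.node (.node .leaf 137800 9 .leaf) 137801 9 .leaf))) 137802 15 (.node (.node (.node (.node .leaf 137803 15 .leaf) 137804 25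 (.node .leaf 137805 24 .leaf)) 137806 43 (.node (.node .leaf 137807 40 .leaf) 137808 73 .leaf)) 137809 62 (.node (.node (.node .leaf 137810 116 .leaf) 137811 90 .leaf) 137856 1 (.node (.node .leaf 137857 1 .leaf) 137858 2 .leaf)))))

def tTree7 : Tree := (.node (.node (.node (.node (.node (.node .leaf 137860 3 .leaf) 137861 3 (.node .leaf 137862 5 .leaf)) 137863 5 (.node (.node .leaf 137864 9 .leaf) 137865 9 .leaf)) 137866 15 (.node (.node (.node .leaf 137867 15 .leaf) 137868 25 .leaf) 137869 24 (.node (.node .leaf 137870 43 .leaf) 137871 40 .leaf))) 137872 73 (.node (.node (.node (.node .leaf 137873 62 .leaf) 137874 123 (.node .leaf 137875 96 .leaf)) 137876 196 (.node (.node .leaf 137877 144 .leaf) 137920 1 .leaf)) 137921 1 (.node (.node (.node .leaf 137922 2 .leaf) 137923 2 .leaf) 137924 3 (.node (.node .leaf 137925 3 .leaf) 137926 5 .leaf)))) 137927 5 (.node (.node (.node (.node (.node .leaf 137928 9 .leaf) 137929 9 (.node .leaf 137930 15 .leaf)) 137931 15 (.node (.node .leaf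 137932 25 .leaf) 137933 24 .leaf)) 137934 43 (.node (.node (.node .leaf 137935 41 .leaf) 137936 73 .leaf) 137937 66 (.node (.node .leaf 137938 123 .leaf) 137939 106 .leaf))) 137940 209 (.node (.node (.node (.node .leaf 137941 162 .leaf) 137942 332 (.node .leaf 137943 244 .leaf)) 137985 1 (.node (.node .leaf 137987 2 .leaf) 137989 3 .leaf)) 137991 5 (.node (.node (.node .leaf 137993 9 .leaf) 137995 15 .leaf) 137997 25 (.node (.node .leaf 137999 42 .leaf) 138001 68 .leaf)))))

def tTree8 : Tree := (.node (.node (.node (.node (.node (.node .leaf 138005 174 .leaf) 138007 266 (.node .leaf 138009 396 .leaf)) 138049 1 (.node (.node .leaf 138051 2 .leaf) 138053 3 .leaf)) 138055 5 (.node (.node (.node .leaf 138057 9 .leaf) 138059 15 .leaf) 138061 25 (.node (.node .leaf 138063 42 .leaf) 138065 71 .leaf))) 138067 114 (.node (.node (.node (.node .leaf 138069 186 .leaf) 138071 302 (.node .leaf 138073 462 .leaf)) 138075 692 (.node (.node .leaf 139264 1 .leaf) 139265 1 .leaf)) 139328 1 (.node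 (.node (.node .leaf 139329 1 .leaf) 139330 1 .leaf) 139331 1 (.node (.node .leaf 139392 1 .leaf) 139393 1 .leaf)))) 139394 2 (.node (.node (.node (.node (.node .leaf 139395 1 .leaf) 139396 3 (.node .leaf 139397 2 .leaf)) 139456 1 (.node (.node .leaf 139457 1 .leaf) 139458 2 .leaf)) 139459 1 (.node (.node (.node .leaf 139460 3 .leaf) 139461 2 .leaf) 139462 5 (.node (.node .leaf 139463 3 .leaf) 139520 1 .leaf))) 139521 1 (.node (.node (.node (.node .leaf 139522 2 .leaf) 139523 2 .leaf) 139524 3 (.node (.node .leaf 139525 3 .leaf) 139526 5 .leaf)) 139527 4 (.node (.node (.node .leaf 139528 9 .leaf) 139529 6 .leaf) 139584 1 (.node (.node .leaf 139585 1 .leaf) 139586 2 .leaf)))))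

def tTree9 : Tree := (.node (.node (.node (.node (.node (.node .leaf 139588 3 .leaf) 139589 3 (.node .leaf 139590 5 .leaf)) 139591 4 (.node (.node .leaf 139592 9 .leaf) 139593 6 .leaf)) 139594 15 (.node (.node (.node .leaf 139595 9 .leaf) 139648 1 .leaf) 139649 1 (.node (.node .leaf 139650 2 .leaf) 139651 2 .leaf))) 139652 3 (.node (.node (.node (.node .leaf 139653 3 .leaf) 139654 5 (.node .leaf 139655 5 .leaf)) 139656 9 (.node (.node .leaf 139657 8 .leaf) 139658 15 .leaf)) 139659 11 (.node (.node (.node .leaf 139660 25 .leaf) 139661 16 .leaf) 139712 1 (.node (.node .leaf 139713 1 .leaf) 139714 2 .leaf)))) 139715 2 (.node (.node (.node (.node (.node .leaf 139716 3 .leaf) 139717 3 (.node .leaf 139718 5 .leaf)) 139719 5 (.node (.node .leaf 139720 9 .leaf) 139721 8 .leaf)) 139722 15 (.node (.node (.node .leaf 139723 11 .leaf) 139724 25 .leaf) 139725 16 (.node (.node .leaf 139726 41 .leaf) 139727 24 .leaf))) 139776 1 (.node (.node (.node (.node .leaf 139777 1 .leaf) 139778 2 (.node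 .leaf 139779 2 .leaf)) 139780 3 (.node (.node .leaf 139781 3 .leaf) 139782 5 .leaf)) 139783 5 (.node (.node (.node .leaf 139784 9 .leaf) 139785 9 .leaf) 139786 15 (.node (.node .leaf 139787 14 .leaf) 139788 25 .leaf)))))

def tTree10 : Tree := (.node (.node (.node (.node (.node (.node .leaf 139790 43 .leaf) 139791 31 (.node .leaf 139792 69 .leaf)) 139793 44 (.node (.node .leaf 139840 1 .leaf) 139841 1 .leaf)) 139842 2 (.node (.node (.node .leaf 139843 2 .leaf) 139844 3 .leaf) 139845 3 (.node (.node .leaf 139846 5 .leaf) 139847 5 .leaf))) 139848 9 (.node (.node (.node (.node .leaf 139849 9 .leaf) 139850 15 (.node .leaf 139851 14 .leaf)) 139852 25 (.node (.node .leaf 139853 22 .leaf) 139854 43 .leaf)) 139855 32 (.node (.node (.node .leaf 139856 73 .leaf) 139857 48 .leaf) 139858 116 (.node (.node .leaf 139859 72 .leaf) 139904 1 .leaf)))) 139905 1 (.node (.node (.node (.node (.node .leaf 139906 2 .leaf) 139907 2 (.node .leaf 139908 3 .leaf)) 139909 3 (.node (.node .leaf 139910 5 .leaf)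 139911 5 .leaf)) 139912 9 (.node (.node (.node .leaf 139913 9 .leaf) 139914 15 .leaf) 139915 14 (.node (.node .leaf 139916 25 .leaf) 139917 23 .leaf))) 139918 43 (.node (.node (.node (.node .leaf 139919 36 .leaf) 139920 73 (.node .leaf 139921 56 .leaf)) 139922 123 (.node (.node .leaf 139923 82 .leaf) 139924 196 .leaf)) 139925 122 (.node (.node (.node .leaf 139969 1 .leaf) 139971 2 .leaf) 139973 3 (.node (.node .leaf 139975 5 .leaf) 139977 9 .leaf)))))

def tTree11 : Tree := (.node (.node (.node (.node (.node (.node .leaf 139981 24 .leaf) 139983 38 (.node .leaf 139985 60 .leaf)) 139987 88 (.node (.node .leaf 139989 130 .leaf) 139991 196 .leaf)) 140033 1 (.node (.node (.node .leaf 140035 2 .leaf) 140037 3 .leaf) 140039 5 (.node (.node .leaf 140041 9 .leaf) 140043 15 .leaf))) 140045 24 (.node (.node (.node (.node .leaf 140047 41 .leaf) 140049 64 (.node .leaf 140051 100 .leaf)) 140053 156 (.node (.node .leaf 140055 230 .leaf) 140057 335 .leaf)) 141312 1 (.node (.node (.node .leaf 141313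 1 .leaf) 141376 1 .leaf) 141377 1 (.node (.node .leaf 141378 1 .leaf) 141379 1 .leaf)))) 141440 1 (.node (.node (.node (.node (.node .leaf 141441 1 .leaf) 141442 2 (.node .leaf 141443 1 .leaf)) 141444 3 (.node (.node .leaf 141445 2 .leaf) 141504 1 .leaf)) 141505 1 (.node (.node (.node .leaf 141506 2 .leaf) 141507 1 .leaf) 141508 3 (.node (.node .leaf 141509 2 .leaf) 141510 5 .leaf))) 141511 3 (.node (.node (.node (.node .leaf 141568 1 .leaf) 141569 1 (.node .leaf 141570 2 .leaf)) 141571 1 (.node (.node .leaf 141572 3 .leaf) 141573 2 .leaf)) 141574 5 (.node (.node (.node .leaf 141575 3 .leaf) 141576 9 .leaf) 141577 4 (.node (.node .leaf 141632 1 .leaf) 141633 1 .leaf)))))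

def tTree12 : Tree := (.node (.node (.node (.node (.node (.node .leaf 141635 2 .leaf) 141636 3 (.node .leaf 141637 3 .leaf)) 141638 5 (.node (.node .leaf 141639 4 .leaf) 141640 9 .leaf)) 141641 6 (.node (.node (.node .leaf 141642 15 .leaf) 141643 9 .leaf) 141696 1 (.node (.node .leaf 141697 1 .leaf) 141698 2 .leaf))) 141699 2 (.node (.node (.node (.node .leaf 141700 3 .leaf) 141701 3 (.node .leaf 141702 5 .leaf)) 141703 4 (.node (.node .leaf 141704 9 .leaf) 141705 6 .leaf)) 141706 15 (.node (.node (.node .leaf 141707 9 .leaf) 141708 25 .leaf) 141709 12 (.node (.node .leaf 141760 1 .leaf) 141761 1 .leaf)))) 141762 2 (.node (.node (.node (.node (.node .leaf 141763 2 .leaf) 141764 3 (.node .leaf 141765 3 .leaf)) 141766 5 (.node (.node .leaf 141767 5 .leaf) 141768 9 .leaf)) 141769 8 (.node (.node (.node .leaf 141770 15 .leaf) 141771 11 .leaf) 141772 25 (.node (.node .leaf 141773 16 .leaf) 141774 41 .leaf))) 141775 24 (.node (.node (.node (.node .leaf 141824 1 .leaf) 141825 1 .leaf)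 141826 2 (.node (.node .leaf 141827 2 .leaf) 141828 3 .leaf)) 141829 3 (.node (.node (.node .leaf 141830 5 .leaf) 141831 5 .leaf) 141832 9 (.node (.node .leaf 141833 8 .leaf) 141834 15 .leaf)))))

def tTree13 : Tree := (.node (.node (.node (.node (.node (.node .leaf 141836 25 .leaf) 141837 16 (.node .leaf 141838 43 .leaf)) 141839 24 (.node (.node .leaf 141840 69 .leaf) 141841 33 .leaf)) 141888 1 (.node (.node (.node .leaf 141889 1 .leaf) 141890 2 .leaf) 141891 2 (.node (.node .leaf 141892 3 .leaf) 141893 3 .leaf))) 141894 5 (.node (.node (.node (.node .leaf 141895 5 .leaf) 141896 9 (.node .leaf 141897 8 .leaf)) 141898 15 (.node (.node .leaf 141899 13 .leaf) 141900 25 .leaf)) 141901 20 (.node (.node (.node .leaf 141902 43 .leaf) 141903 28 .leaf) 141904 73 (.node (.node .leaf 141905 41 .leaf) 141906 116 .leaf)))) 141907 60 (.node (.node (.node (.node (.node .leaf 141953 1 .leaf) 141955 2 (.node .leaf 141957 3 .leaf)) 141959 5 (.node (.node .leaf 141961 9 .leaf) 141963 14 .leaf)) 141965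 22 (.node (.node (.node .leaf 141967 31 .leaf) 141969 44 .leaf) 141971 66 (.node (.node .leaf 141973 93 .leaf) 142017 1 .leaf))) 142019 2 (.node (.node (.node (.node .leaf 142021 3 .leaf) 142023 5 (.node .leaf 142025 9 .leaf)) 142027 14 (.node (.node .leaf 142029 23 .leaf) 142031 36 .leaf)) 142033 56 (.node (.node (.node .leaf 142035 80 .leaf) 142037 115 .leaf) 142039 168 (.node (.node .leaf 143360 1 .leaf) 143361 1 .leaf)))))

def tTree14 : Tree := (.node (.node (.node (.node (.node (.node .leaf 143425 1 .leaf) 143426 1 (.node .leaf 143427 1 .leaf)) 143488 1 (.node (.node .leaf 143489 1 .leaf) 143490 2 .leaf)) 143491 1 (.node (.node (.node .leaf 143492 3 .leaf) 143493 2 .leaf) 143552 1 (.node (.node .leaf 143553 1 .leaf) 143554 2 .leaf))) 143555 1 (.node (.node (.node (.node .leaf 143556 3 .leaf) 143557 2 (.node .leaf 143558 5 .leaf)) 143559 3 (.node (.node .leaf 143616 1 .leaf) 143617 1 .leaf)) 143618 2 (.node (.node (.node .leaf 143619 1 .leaf) 143620 3 .leaf) 143621 2 (.node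 (.node .leaf 143622 5 .leaf) 143623 3 .leaf)))) 143624 9 (.node (.node (.node (.node (.node .leaf 143625 4 .leaf) 143680 1 (.node .leaf 143681 1 .leaf)) 143682 2 (.node (.node .leaf 143683 1 .leaf) 143684 3 .leaf)) 143685 2 (.node (.node (.node .leaf 143686 5 .leaf) 143687 3 .leaf) 143688 9 (.node (.node .leaf 143689 4 .leaf) 143690 15 .leaf))) 143691 6 (.node (.node (.node (.node .leaf 143744 1 .leaf) 143745 1 (.node .leaf 143746 2 .leaf)) 143747 2 (.node (.node .leaf 143748 3 .leaf) 143749 3 .leaf)) 143750 5 (.node (.node (.node .leaf 143751 4 .leaf) 143752 9 .leaf) 143753 6 (.node (.node .leaf 143754 15 .leaf) 143755 9 .leaf)))))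

def tTree15 : Tree := (.node (.node (.node (.node (.node (.node .leaf 143757 12 .leaf) 143808 1 (.node .leaf 143809 1 .leaf)) 143810 2 (.node (.node .leaf 143811 2 .leaf) 143812 3 .leaf)) 143813 3 (.node (.node (.node .leaf 143814 5 .leaf) 143815 4 .leaf) 143816 9 (.node (.node .leaf 143817 6 .leaf) 143818 15 .leaf))) 143819 9 (.node (.node (.node (.node .leaf 143820 25 .leaf) 143821 12 (.node .leaf 143822 41 .leaf)) 143823 18 (.node (.node .leaf 143872 1 .leaf) 143873 1 .leaf)) 143874 2 (.node (.node (.node .leaf 143875 2 .leaf) 143876 3 .leaf) 143877 3 (.node (.node .leaf 143878 5 .leaf) 143879 5 .leaf)))) 143880 9 (.node (.node (.node (.node (.node .leaf 143881 8 .leaf) 143882 15 (.node .leaf 143883 11 .leaf)) 143884 25 (.node (.node .leaf 143885 16 .leaf) 143886 43 .leaf)) 143887 24 (.node (.node (.node .leaf 143888 69 .leaf) 143889 33 .leaf) 143937 1 (.node (.node .leaf 143939 2 .leaf) 143941 3 .leaf))) 143943 5 (.node (.node (.node (.node .leaf 143945 8 .leaf) 143947 11 (.node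 .leaf 143949 16 .leaf)) 143951 24 (.node (.node .leaf 143953 33 .leaf) 143955 48 .leaf)) 144001 1 (.node (.node (.node .leaf 144003 2 .leaf) 144005 3 .leaf) 144007 5 (.node (.node .leaf 144009 8 .leaf) 144011 13 .leaf)))))

def tTree16 : Tree := (.node (.node (.node (.node (.node (.node .leaf 144015 28 .leaf) 144017 41 (.node .leaf 144019 60 .leaf)) 144021 84 (.node (.node .leaf 145408 1 .leaf) 145409 1 .leaf)) 145472 1 (.node (.node (.node .leaf 145473 1 .leaf) 145474 1 .leaf) 145475 1 (.node (.node .leaf 145536 1 .leaf) 145537 1 .leaf))) 145538 2 (.node (.node (.node (.node .leaf 145539 1 .leaf) 145540 3 (.node .leaf 145541 2 .leaf)) 145600 1 (.node (.node .leaf 145601 1 .leaf) 145602 2 .leaf)) 145603 1 (.node (.node (.node .leaf 145604 3 .leaf) 145605 2 .leaf) 145606 5 (.node (.node .leaf 145607 3 .leaf) 145664 1 .leaf)))) 145665 1 (.node (.node (.node (.node (.node .leaf 145666 2 .leaf) 145667 1 (.node .leaf 145668 3 .leaf)) 145669 2 (.node (.node .leaf 145670 5 .leaf) 145671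 3 .leaf)) 145672 9 (.node (.node (.node .leaf 145673 4 .leaf) 145728 1 .leaf) 145729 1 (.node (.node .leaf 145730 2 .leaf) 145731 1 .leaf))) 145732 3 (.node (.node (.node (.node .leaf 145733 2 .leaf) 145734 5 .leaf) 145735 3 (.node (.node .leaf 145736 9 .leaf) 145737 4 .leaf)) 145738 15 (.node (.node (.node .leaf 145739 6 .leaf) 145792 1 .leaf) 145793 1 (.node (.node .leaf 145794 2 .leaf) 145795 1 .leaf)))))

def tTree17 : Tree := (.node (.node (.node (.node (.node (.node .leaf 145797 2 .leaf) 145798 5 (.node .leaf 145799 3 .leaf)) 145800 9 (.node (.node .leaf 145801 4 .leaf) 145802 15 .leaf)) 145803 6 (.node (.node (.node .leaf 145804 25 .leaf) 145805 9 .leaf) 145856 1 (.node (.node .leaf 145857 1 .leaf) 145858 2 .leaf))) 145859 2 (.node (.node (.node (.node .leaf 145860 3 .leaf) 145861 3 (.node .leaf 145862 5 .leaf)) 145863 4 (.node (.node .leaf 145864 9 .leaf) 145865 6 .leaf)) 145866 15 (.node (.node (.node .leaf 145867 9 .leaf) 145868 25 .leaf) 145869 12 (.node (.node .leaf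 145870 41 .leaf) 145871 18 .leaf)))) 145921 1 (.node (.node (.node (.node (.node .leaf 145923 2 .leaf) 145925 3 (.node .leaf 145927 4 .leaf)) 145929 6 (.node (.node .leaf 145931 9 .leaf) 145933 12 .leaf)) 145935 18 (.node (.node (.node .leaf 145937 27 .leaf) 145985 1 .leaf) 145987 2 (.node (.node .leaf 145989 3 .leaf) 145991 5 .leaf))) 145993 8 (.node (.node (.node (.node .leaf 145995 11 .leaf) 145997 16 (.node .leaf 145999 24 .leaf)) 146001 33 (.node (.node .leaf 146003 48 .leaf) 147456 1 .leaf)) 147457 1 (.node (.node (.node .leaf 147520 1 .leaf) 147521 1 .leaf) 147522 1 (.node (.node .leaf 147523 1 .leaf) 147584 1 .leaf)))))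

def tTree18 : Tree := (.node (.node (.node (.node (.node (.node .leaf 147586 2 .leaf) 147587 1 (.node .leaf 147588 3 .leaf)) 147589 2 (.node (.node .leaf 147648 1 .leaf) 147649 1 .leaf)) 147650 2 (.node (.node (.node .leaf 147651 1 .leaf) 147652 3 .leaf) 147653 2 (.node (.node .leaf 147654 5 .leaf) 147655 3 .leaf))) 147712 1 (.node (.node (.node (.node .leaf 147713 1 .leaf) 147714 2 (.node .leaf 147715 1 .leaf)) 147716 3 (.node (.node .leaf 147717 2 .leaf) 147718 5 .leaf)) 147719 3 (.node (.node (.node .leaf 147720 9 .leaf) 147721 4 .leaf) 147776 1 (.node (.node .leaf 147777 1 .leaf) 147778 2 .leaf)))) 147779 1 (.node (.node (.node (.node (.node .leaf 147780 3 .leaf) 147781 2 (.node .leaf 147782 5 .leaf)) 147783 3 (.node (.node .leaf 147784 9 .leaf) 147785 4 .leaf)) 147786 15 (.node (.node (.node .leaf 147787 6 .leaf) 147840 1 .leaf) 147841 1 (.node (.node .leaf 147842 2 .leaf) 147843 1 .leaf))) 147844 3 (.node (.node (.node (.node .leaf 147845 2 .leaf) 147846 5 (.node .leaf 147847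 3 .leaf)) 147848 9 (.node (.node .leaf 147849 4 .leaf) 147850 15 .leaf)) 147851 6 (.node (.node (.node .leaf 147852 25 .leaf) 147853 9 .leaf) 147905 1 (.node (.node .leaf 147907 1 .leaf) 147909 2 .leaf)))))

def tTree19 : Tree := (.node (.node (.node (.node (.node (.node .leaf 147913 4 .leaf) 147915 6 (.node .leaf 147917 9 .leaf)) 147919 12 (.node (.node .leaf 147969 1 .leaf) 147971 2 .leaf)) 147973 3 (.node (.node (.node .leaf 147975 4 .leaf) 147977 6 .leaf) 147979 9 (.node (.node .leaf 147981 12 .leaf) 147983 18 .leaf))) 147985 27 (.node (.node (.node (.node .leaf 149504 1 .leaf) 149505 1 (.node .leaf 149568 1 .leaf)) 149569 1 (.node (.node .leaf 149570 1 .leaf) 149571 1 .leaf)) 149632 1 (.node (.node (.node .leaf 149633 1 .leaf) 149634 2 .leaf) 149635 1 (.node (.node .leaf 149636 3 .leaf) 149637 2 .leaf)))) 149696 1 (.node (.node (.node (.node (.node .leaf 149697 1 .leaf) 149698 2 (.node .leaf 149699 1 .leaf)) 149700 3 (.node (.node .leaf 149701 2 .leaf) 149702 5 .leaf)) 149703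 3 (.node (.node (.node .leaf 149760 1 .leaf) 149761 1 .leaf) 149762 2 (.node (.node .leaf 149763 1 .leaf) 149764 3 .leaf))) 149765 2 (.node (.node (.node (.node .leaf 149766 5 .leaf) 149767 3 (.node .leaf 149768 9 .leaf)) 149769 4 (.node (.node .leaf 149824 1 .leaf) 149825 1 .leaf)) 149826 2 (.node (.node (.node .leaf 149827 1 .leaf) 149828 3 .leaf) 149829 2 (.node (.node .leaf 149830 5 .leaf) 149831 3 .leaf)))))

def tTree20 : Tree := (.node (.node (.node (.node (.node (.node .leaf 149833 4 .leaf) 149834 15 (.node .leaf 149835 6 .leaf)) 149889 1 (.node (.node .leaf 149891 1 .leaf) 149893 2 .leaf)) 149895 3 (.node (.node (.node .leaf 149897 4 .leaf) 149899 6 .leaf) 149901 9 (.node (.node .leaf 149953 1 .leaf) 149955 1 .leaf))) 149957 2 (.node (.node (.node (.node .leaf 149959 3 .leaf) 149961 4 (.node .leaf 149963 6 .leaf)) 149965 9 (.node (.node .leaf 149967 12 .leaf) 151552 1 .leaf)) 151553 1 (.node (.node (.node .leaf 151616 1 .leaf) 151617 1 .leaf) 151618 1 (.node (.node .leaf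 151619 1 .leaf) 151680 1 .leaf)))) 151681 1 (.node (.node (.node (.node (.node .leaf 151682 2 .leaf) 151683 1 (.node .leaf 151684 3 .leaf)) 151685 2 (.node (.node .leaf 151744 1 .leaf) 151745 1 .leaf)) 151746 2 (.node (.node (.node .leaf 151747 1 .leaf) 151748 3 .leaf) 151749 2 (.node (.node .leaf 151750 5 .leaf) 151751 3 .leaf))) 151808 1 (.node (.node (.node (.node .leaf 151809 1 .leaf) 151810 2 .leaf) 151811 1 (.node (.node .leaf 151812 3 .leaf) 151813 2 .leaf)) 151814 5 (.node (.node (.node .leaf 151815 3 .leaf) 151816 9 .leaf) 151817 4 (.node (.node .leaf 151873 1 .leaf) 151875 1 .leaf)))))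

def tTree21 : Tree := (.node (.node (.node (.node (.node (.node .leaf 151879 3 .leaf) 151881 4 (.node .leaf 151883 6 .leaf)) 151937 1 (.node (.node .leaf 151939 1 .leaf) 151941 2 .leaf)) 151943 3 (.node (.node (.node .leaf 151945 4 .leaf) 151947 6 .leaf) 151949 9 (.node (.node .leaf 153600 1 .leaf) 153601 1 .leaf))) 153664 1 (.node (.node (.node (.node .leaf 153665 1 .leaf) 153666 1 (.node .leaf 153667 1 .leaf)) 153728 1 (.node (.node .leaf 153729 1 .leaf) 153730 2 .leaf)) 153731 1 (.node (.node (.node .leaf 153732 3 .leaf) 153733 2 .leaf) 153792 1 (.node (.node .leaf 153793 1 .leaf) 153794 2 .leaf)))) 153795 1 (.node (.node (.node (.node (.node .leaf 153796 3 .leaf) 153797 2 (.node .leaf 153798 5 .leaf)) 153799 3 (.node (.node .leaf 153857 1 .leaf) 153859 1 .leaf)) 153861 2 (.node (.node (.node .leaf 153863 3 .leaf) 153865 4 .leaf) 153921 1 (.node (.node .leaf 153923 1 .leaf) 153925 2 .leaf))) 153927 3 (.node (.node (.node (.node .leaf 153929 4 .leaf) 153931 6 (.node .leaf 155648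 1 .leaf)) 155649 1 (.node (.node .leaf 155712 1 .leaf) 155713 1 .leaf)) 155714 1 (.node (.node (.node .leaf 155715 1 .leaf) 155776 1 .leaf) 155777 1 (.node (.node .leaf 155778 2 .leaf) 155779 1 .leaf)))))

def tTree22 : Tree := (.node (.node (.node (.node (.node (.node .leaf 155781 2 .leaf) 155841 1 (.node .leaf 155843 1 .leaf)) 155845 2 (.node (.node .leaf 155847 3 .leaf) 155905 1 .leaf)) 155907 1 (.node (.node (.node .leaf 155909 2 .leaf) 155911 3 .leaf) 155913 4 (.node (.node .leaf 157696 1 .leaf) 157697 1 .leaf))) 157760 1 (.node (.node (.node (.node .leaf 157761 1 .leaf) 157762 1 (.node .leaf 157763 1 .leaf)) 157825 1 (.node (.node .leaf 157827 1 .leaf) 157829 2 .leaf)) 157889 1 (.node (.node (.node .leaf 157891 1 .leaf) 157893 2 .leaf) 157895 3 (.node (.node .leaf 159744 1 .leaf) 159745 1 .leaf)))) 159809 1 (.node (.node (.node (.node (.node .leaf 159811 1 .leaf) 159873 1 (.node .leaf 159875 1 .leaf)) 159877 2 (.node (.node .leaf 161793 1 .leaf) 161857 1 .leaf)) 161859 1 (.node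 (.node (.node .leaf 163841 1 .leaf) 200768 1 .leaf) 200769 1 (.node (.node .leaf 200771 1 .leaf) 200832 1 .leaf))) 200833 1 (.node (.node (.node (.node .leaf 200834 1 .leaf) 200835 1 (.node .leaf 200837 2 .leaf)) 200896 1 (.node (.node .leaf 200897 1 .leaf) 200898 1 .leaf)) 200899 1 (.node (.node (.node .leaf 200900 2 .leaf) 200901 2 .leaf) 200903 3 (.node (.node .leaf 200960 1 .leaf) 200961 1 .leaf)))))

def tTree23 : Tree := (.node (.node (.node (.node (.node (.node .leaf 200963 2 .leaf) 200964 3 (.node .leaf 200965 3 .leaf)) 200966 4 (.node (.node .leaf 200967 4 .leaf) 200969 6 .leaf)) 201024 1 (.node (.node (.node .leaf 201025 1 .leaf) 201026 2 .leaf) 201027 2 (.node (.node .leaf 201028 3 .leaf) 201029 3 .leaf))) 201030 5 (.node (.node (.node (.node .leaf 201031 4 .leaf) 201032 8 (.node .leaf 201033 6 .leaf)) 201035 9 (.node (.node .leaf 201088 1 .leaf) 201089 1 .leaf)) 201090 2 (.node (.node (.node .leaf 201091 2 .leaf) 201092 3 .leaf) 201093 3 (.node (.node .leaf 201094 5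 .leaf) 201095 5 .leaf)))) 201096 8 (.node (.node (.node (.node (.node .leaf 201097 8 .leaf) 201098 13 (.node .leaf 201099 11 .leaf)) 201101 16 (.node (.node .leaf 201152 1 .leaf) 201153 1 .leaf)) 201154 2 (.node (.node (.node .leaf 201155 2 .leaf) 201156 3 .leaf) 201157 3 (.node (.node .leaf 201158 5 .leaf) 201159 5 .leaf))) 201160 9 (.node (.node (.node (.node .leaf 201161 8 .leaf) 201162 14 (.node .leaf 201163 12 .leaf)) 201164 22 (.node (.node .leaf 201165 18 .leaf) 201167 24 .leaf)) 201216 1 (.node (.node (.node .leaf 201217 1 .leaf) 201218 2 .leaf) 201219 2 (.node (.node .leaf 201220 3 .leaf) 201221 3 .leaf)))))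

def tTree24 : Tree := (.node (.node (.node (.node (.node (.node .leaf 201223 5 .leaf) 201224 9 (.node .leaf 201225 9 .leaf)) 201226 15 (.node (.node .leaf 201227 14 .leaf) 201228 24 .leaf)) 201229 22 (.node (.node (.node .leaf 201230 38 .leaf) 201231 32 .leaf) 201233 44 (.node (.node .leaf 201280 1 .leaf) 201281 1 .leaf))) 201282 2 (.node (.node (.node (.node .leaf 201283 2 .leaf) 201284 3 (.node .leaf 201285 3 .leaf)) 201286 5 (.node (.node .leaf 201287 5 .leaf) 201288 9 .leaf)) 201289 9 (.node (.node (.node .leaf 201290 15 .leaf) 201291 14 .leaf) 201292 25 (.node (.node .leaf 201293 22 .leaf) 201294 40 .leaf)))) 201295 32 (.node (.node (.node (.node (.node .leaf 201296 64 .leaf) 201297 48 (.node .leaf 201299 66 .leaf)) 201344 1 (.node (.node .leaf 201345 1 .leaf) 201346 2 .leaf)) 201347 2 (.node (.node (.node .leaf 201348 3 .leaf) 201349 3 .leaf) 201350 5 (.node (.node .leaf 201351 5 .leaf) 201352 9 .leaf))) 201353 9 (.node (.node (.node (.node .leaf 201354 15 .leaf) 201355 15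 .leaf) 201356 25 (.node (.node .leaf 201357 24 .leaf) 201358 43 .leaf)) 201359 40 (.node (.node (.node .leaf 201360 68 .leaf) 201361 62 .leaf) 201362 108 (.node (.node .leaf 201363 90 .leaf) 201365 124 .leaf)))))

def tTree25 : Tree := (.node (.node (.node (.node (.node (.node .leaf 201409 1 .leaf) 201410 2 (.node .leaf 201411 2 .leaf)) 201412 3 (.node (.node .leaf 201413 3 .leaf) 201414 5 .leaf)) 201415 5 (.node (.node (.node .leaf 201416 9 .leaf) 201417 9 .leaf) 201418 15 (.node (.node .leaf 201419 15 .leaf) 201420 25 .leaf))) 201421 24 (.node (.node (.node (.node .leaf 201422 43 .leaf) 201423 40 (.node .leaf 201424 73 .leaf)) 201425 62 (.node (.node .leaf 201426 116 .leaf) 201427 96 .leaf)) 201428 184 (.node (.node (.node .leaf 201429 144 .leaf) 201431 192 .leaf) 202752 1 (.node (.node .leaf 202753 1 .leaf) 202816 1 .leaf)))) 202817 1 (.node (.node (.node (.node (.node .leaf 202818 1 .leaf) 202819 1 (.node .leaf 202880 1 .leaf)) 202881 1 (.node (.node .leaf 202882 1 .leaf) 202883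 1 .leaf)) 202884 2 (.node (.node (.node .leaf 202885 2 .leaf) 202944 1 .leaf) 202945 1 (.node (.node .leaf 202946 2 .leaf) 202947 2 .leaf))) 202948 3 (.node (.node (.node (.node .leaf 202949 3 .leaf) 202950 4 (.node .leaf 202951 4 .leaf)) 203008 1 (.node (.node .leaf 203009 1 .leaf) 203010 2 .leaf)) 203011 2 (.node (.node (.node .leaf 203012 3 .leaf) 203013 3 .leaf) 203014 5 (.node (.node .leaf 203015 4 .leaf) 203016 8 .leaf)))))

def tTree26 : Tree := (.node (.node (.node (.node (.node (.node .leaf 203072 1 .leaf) 203073 1 (.node .leaf 203074 2 .leaf)) 203075 2 (.node (.node .leaf 203076 3 .leaf) 203077 3 .leaf)) 203078 5 (.node (.node (.node .leaf 203079 5 .leaf) 203080 8 .leaf) 203081 8 (.node (.node .leaf 203082 13 .leaf) 203083 11 .leaf))) 203136 1 (.node (.node (.node (.node .leaf 203137 1 .leaf) 203138 2 (.node .leaf 203139 2 .leaf)) 203140 3 (.node (.node .leaf 203141 3 .leaf) 203142 5 .leaf)) 203143 5 (.node (.node (.node .leaf 203144 9 .leaf) 203145 8 .leaf) 203146 14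 (.node (.node .leaf 203147 12 .leaf) 203148 22 .leaf)))) 203149 18 (.node (.node (.node (.node (.node .leaf 203200 1 .leaf) 203201 1 (.node .leaf 203202 2 .leaf)) 203203 2 (.node (.node .leaf 203204 3 .leaf) 203205 3 .leaf)) 203206 5 (.node (.node (.node .leaf 203207 5 .leaf) 203208 9 .leaf) 203209 9 (.node (.node .leaf 203210 15 .leaf) 203211 14 .leaf))) 203212 24 (.node (.node (.node (.node .leaf 203213 22 .leaf) 203214 38 (.node .leaf 203215 32 .leaf)) 203264 1 (.node (.node .leaf 203265 1 .leaf) 203266 2 .leaf)) 203267 2 (.node (.node (.node .leaf 203268 3 .leaf) 203269 3 .leaf) 203270 5 (.node (.node .leaf 203271 5 .leaf) 203272 9 .leaf)))))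

def tTree27 : Tree := (.node (.node (.node (.node (.node (.node .leaf 203274 15 .leaf) 203275 14 (.node .leaf 203276 25 .leaf)) 203277 22 (.node (.node .leaf 203278 40 .leaf) 203279 32 .leaf)) 203280 64 (.node (.node (.node .leaf 203281 48 .leaf) 203328 1 .leaf) 203329 1 (.node (.node .leaf 203330 2 .leaf) 203331 2 .leaf))) 203332 3 (.node (.node (.node (.node .leaf 203333 3 .leaf) 203334 5 (.node .leaf 203335 5 .leaf)) 203336 9 (.node (.node .leaf 203337 9 .leaf) 203338 15 .leaf)) 203339 15 (.node (.node (.node .leaf 203340 25 .leaf) 203341 24 .leaf) 203342 43 (.node (.node .leaf 203343 40 .leaf) 203344 68 .leaf)))) 203345 62 (.node (.node (.node (.node (.node .leaf 203346 108 .leaf) 203347 90 (.node .leaf 203392 1 .leaf)) 203393 1 (.node (.node .leaf 203394 2 .leaf) 203395 2 .leaf)) 203396 3 (.node (.node (.node .leaf 203397 3 .leaf) 203398 5 .leaf) 203399 5 (.node (.node .leaf 203400 9 .leaf) 203401 9 .leaf))) 203402 15 (.node (.node (.node (.node .leaf 203403 15 .leaf) 203404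 25 (.node .leaf 203405 24 .leaf)) 203406 43 (.node (.node .leaf 203407 40 .leaf) 203408 73 .leaf)) 203409 62 (.node (.node (.node .leaf 203410 116 .leaf) 203411 96 .leaf) 203412 184 (.node (.node .leaf 203413 144 .leaf) 204800 1 .leaf)))))

def tTree28 : Tree := (.node (.node (.node (.node (.node (.node .leaf 204864 1 .leaf) 204865 1 (.node .leaf 204866 1 .leaf)) 204867 1 (.node (.node .leaf 204928 1 .leaf) 204929 1 .leaf)) 204930 1 (.node (.node (.node .leaf 204931 1 .leaf) 204932 2 .leaf) 204933 2 (.node (.node .leaf 204992 1 .leaf) 204993 1 .leaf))) 204994 2 (.node (.node (.node (.node .leaf 204995 1 .leaf) 204996 3 (.node .leaf 204997 2 .leaf)) 204998 4 (.node (.node .leaf 204999 3 .leaf) 205056 1 .leaf)) 205057 1 (.node (.node (.node .leaf 205058 2 .leaf) 205059 2 .leaf) 205060 3 (.node (.node .leaf 205061 3 .leaf) 205062 5 .leaf)))) 205063 4 (.node (.node (.node (.node (.node .leaf 205064 8 .leaf) 205065 6 (.node .leaf 205120 1 .leaf)) 205121 1 (.node (.node .leaf 205122 2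 .leaf) 205123 2 .leaf)) 205124 3 (.node (.node (.node .leaf 205125 3 .leaf) 205126 5 .leaf) 205127 4 (.node (.node .leaf 205128 8 .leaf) 205129 6 .leaf))) 205130 13 (.node (.node (.node (.node .leaf 205131 9 .leaf) 205184 1 .leaf) 205185 1 (.node (.node .leaf 205186 2 .leaf) 205187 2 .leaf)) 205188 3 (.node (.node (.node .leaf 205189 3 .leaf) 205190 5 .leaf) 205191 5 (.node (.node .leaf 205192 9 .leaf) 205193 8 .leaf)))))

def tTree29 : Tree := (.node (.node (.node (.node (.node (.node .leaf 205195 11 .leaf) 205196 22 (.node .leaf 205197 16 .leaf)) 205248 1 (.node (.node .leaf 205249 1 .leaf) 205250 2 .leaf)) 205251 2 (.node (.node (.node .leaf 205252 3 .leaf) 205253 3 .leaf) 205254 5 (.node (.node .leaf 205255 5 .leaf) 205256 9 .leaf))) 205257 8 (.node (.node (.node (.node .leaf 205258 15 .leaf) 205259 11 (.node .leaf 205260 24 .leaf)) 205261 16 (.node (.node .leaf 205262 38 .leaf) 205263 24 .leaf)) 205312 1 (.node (.node (.node .leaf 205313 1 .leaf) 205314 2 .leaf) 205315 2 (.node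 (.node .leaf 205316 3 .leaf) 205317 3 .leaf)))) 205318 5 (.node (.node (.node (.node (.node .leaf 205319 5 .leaf) 205320 9 (.node .leaf 205321 9 .leaf)) 205322 15 (.node (.node .leaf 205323 14 .leaf) 205324 25 .leaf)) 205325 22 (.node (.node (.node .leaf 205326 40 .leaf) 205327 31 .leaf) 205328 64 (.node (.node .leaf 205329 44 .leaf) 205376 1 .leaf))) 205377 1 (.node (.node (.node (.node .leaf 205378 2 .leaf) 205379 2 (.node .leaf 205380 3 .leaf)) 205381 3 (.node (.node .leaf 205382 5 .leaf) 205383 5 .leaf)) 205384 9 (.node (.node (.node .leaf 205385 9 .leaf) 205386 15 .leaf) 205387 14 (.node (.node .leaf 205388 25 .leaf) 205389 22 .leaf)))))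

def tTree30 : Tree := (.node (.node (.node (.node (.node (.node .leaf 205391 32 .leaf) 205392 68 (.node .leaf 205393 48 .leaf)) 205394 108 (.node (.node .leaf 205395 72 .leaf) 206848 1 .leaf)) 206849 1 (.node (.node (.node .leaf 206912 1 .leaf) 206913 1 .leaf) 206914 1 (.node (.node .leaf 206915 1 .leaf) 206976 1 .leaf))) 206977 1 (.node (.node (.node (.node .leaf 206978 1 .leaf) 206979 1 (.node .leaf 206980 2 .leaf)) 206981 2 (.node (.node .leaf 207040 1 .leaf) 207041 1 .leaf)) 207042 2 (.node (.node (.node .leaf 207043 1 .leaf) 207044 3 .leaf) 207045 2 (.node (.node .leaf 207046 4 .leaf) 207047 3 .leaf)))) 207104 1 (.node (.node (.node (.node (.node .leaf 207105 1 .leaf) 207106 2 (.node .leaf 207107 1 .leaf)) 207108 3 (.node (.node .leaf 207109 2 .leaf) 207110 5 .leaf)) 207111 3 (.node (.node (.node .leaf 207112 8 .leaf) 207113 4 .leaf) 207168 1 (.node (.node .leaf 207169 1 .leaf) 207170 2 .leaf))) 207171 2 (.node (.node (.node (.node .leaf 207172 3 .leaf) 207173 3 (.node .leaf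 207174 5 .leaf)) 207175 4 (.node (.node .leaf 207176 8 .leaf) 207177 6 .leaf)) 207178 13 (.node (.node (.node .leaf 207179 9 .leaf) 207232 1 .leaf) 207233 1 (.node (.node .leaf 207234 2 .leaf) 207235 2 .leaf)))))

def tTree31 : Tree := (.node (.node (.node (.node (.node (.node .leaf 207237 3 .leaf) 207238 5 (.node .leaf 207239 4 .leaf)) 207240 9 (.node (.node .leaf 207241 6 .leaf) 207242 14 .leaf)) 207243 9 (.node (.node (.node .leaf 207244 22 .leaf) 207245 12 .leaf) 207296 1 (.node (.node .leaf 207297 1 .leaf) 207298 2 .leaf))) 207299 2 (.node (.node (.node (.node .leaf 207300 3 .leaf) 207301 3 (.node .leaf 207302 5 .leaf)) 207303 5 (.node (.node .leaf 207304 9 .leaf) 207305 8 .leaf)) 207306 15 (.node (.node (.node .leaf 207307 11 .leaf) 207308 24 .leaf) 207309 16 (.node (.node .leaf 207310 38 .leaf) 207311 24 .leaf)))) 207360 1 (.node (.node (.node (.node (.node .leaf 207361 1 .leaf) 207362 2 (.node .leaf 207363 2 .leaf)) 207364 3 (.node (.node .leaf 207365 3 .leaf) 207366 5 .leaf))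 207367 5 (.node (.node (.node .leaf 207368 9 .leaf) 207369 8 .leaf) 207370 15 (.node (.node .leaf 207371 11 .leaf) 207372 25 .leaf))) 207373 16 (.node (.node (.node (.node .leaf 207374 40 .leaf) 207375 24 (.node .leaf 207376 64 .leaf)) 207377 33 (.node (.node .leaf 208896 1 .leaf) 208897 1 .leaf)) 208960 1 (.node (.node (.node .leaf 208961 1 .leaf) 208962 1 .leaf) 208963 1 (.node (.node .leaf 209024 1 .leaf) 209025 1 .leaf)))))

def tTree32 : Tree := (.node (.node (.node (.node (.node (.node .leaf 209027 1 .leaf) 209028 2 (.node .leaf 209029 2 .leaf)) 209088 1 (.node (.node .leaf 209089 1 .leaf) 209090 2 .leaf)) 209091 1 (.node (.node (.node .leaf 209092 3 .leaf) 209093 2 .leaf) 209094 4 (.node (.node .leaf 209095 3 .leaf) 209152 1 .leaf))) 209153 1 (.node (.node (.node (.node .leaf 209154 2 .leaf) 209155 1 (.node .leaf 209156 3 .leaf)) 209157 2 (.node (.node .leaf 209158 5 .leaf) 209159 3 .leaf)) 209160 8 (.node (.node (.node .leaf 209161 4 .leaf) 209216 1 .leaf) 209217 1 (.node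 (.node .leaf 209218 2 .leaf) 209219 1 .leaf)))) 209220 3 (.node (.node (.node (.node (.node .leaf 209221 2 .leaf) 209222 5 (.node .leaf 209223 3 .leaf)) 209224 8 (.node (.node .leaf 209225 4 .leaf) 209226 13 .leaf)) 209227 6 (.node (.node (.node .leaf 209280 1 .leaf) 209281 1 .leaf) 209282 2 (.node (.node .leaf 209283 2 .leaf) 209284 3 .leaf))) 209285 3 (.node (.node (.node (.node .leaf 209286 5 .leaf) 209287 4 .leaf) 209288 9 (.node (.node .leaf 209289 6 .leaf) 209290 14 .leaf)) 209291 9 (.node (.node (.node .leaf 209292 22 .leaf) 209293 12 .leaf) 209344 1 (.node (.node .leaf 209345 1 .leaf) 209346 2 .leaf)))))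

def tTree33 : Tree := (.node (.node (.node (.node (.node (.node .leaf 209348 3 .leaf) 209349 3 (.node .leaf 209350 5 .leaf)) 209351 4 (.node (.node .leaf 209352 9 .leaf) 209353 6 .leaf)) 209354 15 (.node (.node (.node .leaf 209355 9 .leaf) 209356 24 .leaf) 209357 12 (.node (.node .leaf 209358 38 .leaf) 209359 18 .leaf))) 210944 1 (.node (.node (.node (.node .leaf 210945 1 .leaf) 211008 1 (.node .leaf 211009 1 .leaf)) 211010 1 (.node (.node .leaf 211011 1 .leaf) 211072 1 .leaf)) 211073 1 (.node (.node (.node .leaf 211074 1 .leaf) 211075 1 .leaf) 211076 2 (.node (.node .leaf 211077 2 .leaf) 211136 1 .leaf)))) 211137 1 (.node (.node (.node (.node (.node .leaf 211138 2 .leaf) 211139 1 (.node .leaf 211140 3 .leaf)) 211141 2 (.node (.node .leaf 211142 4 .leaf) 211143 3 .leaf)) 211200 1 (.node (.node (.node .leaf 211201 1 .leaf) 211202 2 .leaf) 211203 1 (.node (.node .leaf 211204 3 .leaf) 211205 2 .leaf))) 211206 5 (.node (.node (.node (.node .leaf 211207 3 .leaf) 211208 8 (.node .leaf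 211209 4 .leaf)) 211264 1 (.node (.node .leaf 211265 1 .leaf) 211266 2 .leaf)) 211267 1 (.node (.node (.node .leaf 211268 3 .leaf) 211269 2 .leaf) 211270 5 (.node (.node .leaf 211271 3 .leaf) 211272 8 .leaf)))))

def tTree34 : Tree := (.node (.node (.node (.node (.node (.node .leaf 211274 13 .leaf) 211275 6 (.node .leaf 211328 1 .leaf)) 211329 1 (.node (.node .leaf 211330 2 .leaf) 211331 1 .leaf)) 211332 3 (.node (.node (.node .leaf 211333 2 .leaf) 211334 5 .leaf) 211335 3 (.node (.node .leaf 211336 9 .leaf) 211337 4 .leaf))) 211338 14 (.node (.node (.node (.node .leaf 211339 6 .leaf) 211340 22 (.node .leaf 211341 9 .leaf)) 212992 1 (.node (.node .leaf 212993 1 .leaf) 213056 1 .leaf)) 213057 1 (.node (.node (.node .leaf 213058 1 .leaf) 213059 1 .leaf) 213120 1 (.node (.node .leaf 213121 1 .leaf) 213122 1 .leaf)))) 213123 1 (.node (.node (.node (.node (.node .leaf 213124 2 .leaf) 213125 2 (.node .leaf 213184 1 .leaf)) 213185 1 (.node (.node .leaf 213186 2 .leaf) 213187 1 .leaf))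 213188 3 (.node (.node (.node .leaf 213189 2 .leaf) 213190 4 .leaf) 213191 3 (.node (.node .leaf 213248 1 .leaf) 213249 1 .leaf))) 213250 2 (.node (.node (.node (.node .leaf 213251 1 .leaf) 213252 3 (.node .leaf 213253 2 .leaf)) 213254 5 (.node (.node .leaf 213255 3 .leaf) 213256 8 .leaf)) 213257 4 (.node (.node (.node .leaf 213312 1 .leaf) 213313 1 .leaf) 213314 2 (.node (.node .leaf 213315 1 .leaf) 213316 3 .leaf)))))

def tTree35 : Tree := (.node (.node (.node (.node (.node (.node .leaf 213318 5 .leaf) 213319 3 (.node .leaf 213320 8 .leaf)) 213321 4 (.node (.node .leaf 213322 13 .leaf) 213323 6 .leaf)) 215040 1 (.node (.node (.node .leaf 215041 1 .leaf) 215104 1 .leaf) 215105 1 (.node (.node .leaf 215106 1 .leaf) 215107 1 .leaf))) 215168 1 (.node (.node (.node (.node .leaf 215169 1 .leaf) 215170 1 (.node .leaf 215171 1 .leaf)) 215172 2 (.node (.node .leaf 215173 2 .leaf) 215232 1 .leaf)) 215233 1 (.node (.node (.node .leaf 215234 2 .leaf) 215235 1 .leaf) 215236 3 (.node (.node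 .leaf 215237 2 .leaf) 215238 4 .leaf)))) 215239 3 (.node (.node (.node (.node (.node .leaf 215296 1 .leaf) 215297 1 (.node .leaf 215298 2 .leaf)) 215299 1 (.node (.node .leaf 215300 3 .leaf) 215301 2 .leaf)) 215302 5 (.node (.node (.node .leaf 215303 3 .leaf) 215304 8 .leaf) 215305 4 (.node (.node .leaf 217088 1 .leaf) 217089 1 .leaf))) 217152 1 (.node (.node (.node (.node .leaf 217153 1 .leaf) 217154 1 (.node .leaf 217155 1 .leaf)) 217216 1 (.node (.node .leaf 217217 1 .leaf) 217218 1 .leaf)) 217219 1 (.node (.node (.node .leaf 217220 2 .leaf) 217221 2 .leaf) 217280 1 (.node (.node .leaf 217281 1 .leaf) 217282 2 .leaf)))))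

def tTree36 : Tree := (.node (.node (.node (.node (.node (.node .leaf 217284 3 .leaf) 217285 2 (.node .leaf 217286 4 .leaf)) 217287 3 (.node (.node .leaf 219136 1 .leaf) 219137 1 .leaf)) 219200 1 (.node (.node (.node .leaf 219201 1 .leaf) 219202 1 .leaf) 219203 1 (.node (.node .leaf 219264 1 .leaf) 219265 1 .leaf))) 219266 1 (.node (.node (.node (.node .leaf 219267 1 .leaf) 219268 2 (.node .leaf 219269 2 .leaf)) 221184 1 (.node (.node .leaf 221185 1 .leaf) 221248 1 .leaf)) 221249 1 (.node (.node (.node .leaf 221250 1 .leaf) 221251 1 .leaf) 223232 1 (.node (.node .leaf 223233 1 .leaf) 266368 1 .leaf)))) 266369 1 (.node (.node (.node (.node (.node .leaf 266370 1 .leaf) 266371 1 (.node .leaf 266373 2 .leaf)) 266432 1 (.node (.node .leaf 266433 1 .leaf) 266434 1 .leaf)) 266435 1 (.node (.node (.node .leaf 266436 2 .leaf) 266437 2 .leaf) 266439 3 (.node (.node .leaf 266496 1 .leaf) 266497 1 .leaf))) 266498 1 (.node (.node (.node (.node .leaf 266499 1 .leaf) 266500 2 .leaf) 266501 2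 (.node (.node .leaf 266502 3 .leaf) 266503 3 .leaf)) 266505 4 (.node (.node (.node .leaf 266560 1 .leaf) 266561 1 .leaf) 266562 1 (.node (.node .leaf 266563 1 .leaf) 266564 2 .leaf)))))

def tTree37 : Tree := (.node (.node (.node (.node (.node (.node .leaf 266566 3 .leaf) 266567 3 (.node .leaf 266568 4 .leaf)) 266569 4 (.node (.node .leaf 266571 6 .leaf) 266624 1 .leaf)) 266625 1 (.node (.node (.node .leaf 266626 2 .leaf) 266627 2 .leaf) 266628 3 (.node (.node .leaf 266629 3 .leaf) 266630 4 .leaf))) 266631 4 (.node (.node (.node (.node .leaf 266632 6 .leaf) 266633 6 (.node .leaf 266634 9 .leaf)) 266635 9 (.node (.node .leaf 266637 12 .leaf) 266688 1 .leaf)) 266689 1 (.node (.node (.node .leaf 266690 2 .leaf) 266691 2 .leaf) 266692 3 (.node (.node .leaf 266693 3 .leaf) 266694 5 .leaf)))) 266695 4 (.node (.node (.node (.node (.node .leaf 266696 8 .leaf) 266697 6 (.node .leaf 266698 11 .leaf)) 266699 9 (.node (.node .leaf 266700 16 .leaf) 266701 12 .leaf)) 266703 18 (.node (.node (.node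 .leaf 266752 1 .leaf) 266753 1 .leaf) 266754 2 (.node (.node .leaf 266755 2 .leaf) 266756 3 .leaf))) 266757 3 (.node (.node (.node (.node .leaf 266758 5 .leaf) 266759 5 (.node .leaf 266760 8 .leaf)) 266761 8 (.node (.node .leaf 266762 13 .leaf) 266763 11 .leaf)) 266764 20 (.node (.node (.node .leaf 266765 16 .leaf) 266766 26 .leaf) 266767 24 (.node (.node .leaf 266769 33 .leaf) 266816 1 .leaf)))))

def tTree38 : Tree := (.node (.node (.node (.node (.node (.node .leaf 266818 2 .leaf) 266819 2 (.node .leaf 266820 3 .leaf)) 266821 3 (.node (.node .leaf 266822 5 .leaf) 266823 5 .leaf)) 266824 8 (.node (.node (.node .leaf 266825 8 .leaf) 266826 13 .leaf) 266827 11 (.node (.node .leaf 266828 20 .leaf) 266829 16 .leaf))) 266830 32 (.node (.node (.node (.node .leaf 266831 24 .leaf) 266832 40 (.node .leaf 266833 33 .leaf)) 266835 48 (.node (.node .leaf 266880 1 .leaf) 266881 1 .leaf)) 266882 2 (.node (.node (.node .leaf 266883 2 .leaf) 266884 3 .leaf) 266885 3 (.node (.node .leaf 266886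 5 .leaf) 266887 5 .leaf)))) 266888 9 (.node (.node (.node (.node (.node .leaf 266889 9 .leaf) 266890 14 (.node .leaf 266891 14 .leaf)) 266892 22 (.node (.node .leaf 266893 22 .leaf) 266894 35 .leaf)) 266895 31 (.node (.node (.node .leaf 266896 52 .leaf) 266897 44 .leaf) 266898 70 (.node (.node .leaf 266899 66 .leaf) 266901 93 .leaf))) 268352 1 (.node (.node (.node (.node .leaf 268353 1 .leaf) 268354 1 (.node .leaf 268355 1 .leaf)) 268416 1 (.node (.node .leaf 268417 1 .leaf) 268418 1 .leaf)) 268419 1 (.node (.node (.node .leaf 268420 2 .leaf) 268421 2 .leaf) 268480 1 (.node (.node .leaf 268481 1 .leaf) 268482 1 .leaf)))))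

def tTree39 : Tree := (.node (.node (.node (.node (.node (.node .leaf 268484 2 .leaf) 268485 2 (.node .leaf 268486 3 .leaf)) 268487 3 (.node (.node .leaf 268544 1 .leaf) 268545 1 .leaf)) 268546 1 (.node (.node (.node .leaf 268547 1 .leaf) 268548 2 .leaf) 268549 2 (.node (.node .leaf 268550 3 .leaf) 268551 3 .leaf))) 268552 4 (.node (.node (.node (.node .leaf 268553 4 .leaf) 268608 1 (.node .leaf 268609 1 .leaf)) 268610 2 (.node (.node .leaf 268611 2 .leaf) 268612 3 .leaf)) 268613 3 (.node (.node (.node .leaf 268614 4 .leaf) 268615 4 .leaf) 268616 6 (.node (.node .leaf 268617 6 .leaf) 268618 9 .leaf)))) 268619 9 (.node (.node (.node (.node (.node .leaf 268672 1 .leaf) 268673 1 (.node .leaf 268674 2 .leaf)) 268675 2 (.node (.node .leaf 268676 3 .leaf) 268677 3 .leaf)) 268678 5 (.node (.node (.node .leaf 268679 4 .leaf) 268680 8 .leaf) 268681 6 (.node (.node .leaf 268682 11 .leaf) 268683 9 .leaf))) 268684 16 (.node (.node (.node (.node .leaf 268685 12 .leaf) 268736 1 (.node .leaf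 268737 1 .leaf)) 268738 2 (.node (.node .leaf 268739 2 .leaf) 268740 3 .leaf)) 268741 3 (.node (.node (.node .leaf 268742 5 .leaf) 268743 5 .leaf) 268744 8 (.node (.node .leaf 268745 8 .leaf) 268746 13 .leaf)))))

def tTree40 : Tree := (.node (.node (.node (.node (.node (.node .leaf 268748 20 .leaf) 268749 16 (.node .leaf 268750 26 .leaf)) 268751 24 (.node (.node .leaf 268800 1 .leaf) 268801 1 .leaf)) 268802 2 (.node (.node (.node .leaf 268803 2 .leaf) 268804 3 .leaf) 268805 3 (.node (.node .leaf 268806 5 .leaf) 268807 5 .leaf))) 268808 8 (.node (.node (.node (.node .leaf 268809 8 .leaf) 268810 13 (.node .leaf 268811 11 .leaf)) 268812 20 (.node (.node .leaf 268813 16 .leaf) 268814 32 .leaf)) 268815 24 (.node (.node (.node .leaf 268816 40 .leaf) 268817 33 .leaf) 268864 1 (.node (.node .leaf 268865 1 .leaf) 268866 2 .leaf)))) 268867 2 (.node (.node (.node (.node (.node .leaf 268868 3 .leaf) 268869 3 (.node .leaf 268870 5 .leaf)) 268871 5 (.node (.node .leaf 268872 9 .leaf) 268873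 9 .leaf)) 268874 14 (.node (.node (.node .leaf 268875 14 .leaf) 268876 22 .leaf) 268877 22 (.node (.node .leaf 268878 35 .leaf) 268879 31 .leaf))) 268880 52 (.node (.node (.node (.node .leaf 268881 44 .leaf) 268882 70 .leaf) 268883 66 (.node (.node .leaf 270336 1 .leaf) 270337 1 .leaf)) 270400 1 (.node (.node (.node .leaf 270401 1 .leaf) 270402 1 .leaf) 270403 1 (.node (.node .leaf 270464 1 .leaf) 270465 1 .leaf)))))

def tTree41 : Tree := (.node (.node (.node (.node (.node (.node .leaf 270467 1 .leaf) 270468 2 (.node .leaf 270469 2 .leaf)) 270528 1 (.node (.node .leaf 270529 1 .leaf) 270530 1 .leaf)) 270531 1 (.node (.node (.node .leaf 270532 2 .leaf) 270533 2 .leaf) 270534 3 (.node (.node .leaf 270535 3 .leaf) 270592 1 .leaf))) 270593 1 (.node (.node (.node (.node .leaf 270594 2 .leaf) 270595 2 (.node .leaf 270596 3 .leaf)) 270597 3 (.node (.node .leaf 270598 4 .leaf) 270599 4 .leaf)) 270600 6 (.node (.node (.node .leaf 270601 6 .leaf) 270656 1 .leaf) 270657 1 (.node (.node .leaf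 270658 2 .leaf) 270659 2 .leaf)))) 270660 3 (.node (.node (.node (.node (.node .leaf 270661 3 .leaf) 270662 5 (.node .leaf 270663 4 .leaf)) 270664 8 (.node (.node .leaf 270665 6 .leaf) 270666 11 .leaf)) 270667 9 (.node (.node (.node .leaf 270720 1 .leaf) 270721 1 .leaf) 270722 2 (.node (.node .leaf 270723 2 .leaf) 270724 3 .leaf))) 270725 3 (.node (.node (.node (.node .leaf 270726 5 .leaf) 270727 5 (.node .leaf 270728 8 .leaf)) 270729 8 (.node (.node .leaf 270730 13 .leaf) 270731 11 .leaf)) 270732 20 (.node (.node (.node .leaf 270733 16 .leaf) 270784 1 .leaf) 270785 1 (.node (.node .leaf 270786 2 .leaf) 270787 2 .leaf)))))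

def tTree42 : Tree := (.node (.node (.node (.node (.node (.node .leaf 270789 3 .leaf) 270790 5 (.node .leaf 270791 5 .leaf)) 270792 8 (.node (.node .leaf 270793 8 .leaf) 270794 13 .leaf)) 270795 11 (.node (.node (.node .leaf 270796 20 .leaf) 270797 16 .leaf) 270798 32 (.node (.node .leaf 270799 24 .leaf) 270848 1 .leaf))) 270849 1 (.node (.node (.node (.node .leaf 270850 2 .leaf) 270851 2 (.node .leaf 270852 3 .leaf)) 270853 3 (.node (.node .leaf 270854 5 .leaf) 270855 5 .leaf)) 270856 9 (.node (.node (.node .leaf 270857 9 .leaf) 270858 14 .leaf) 270859 14 (.node (.node .leaf 270860 22 .leaf) 270861 22 .leaf)))) 270862 35 (.node (.node (.node (.node (.node .leaf 270863 31 .leaf) 270864 52 (.node .leaf 270865 44 .leaf)) 272384 1 (.node (.node .leaf 272385 1 .leaf) 272448 1 .leaf)) 272449 1 (.node (.node (.node .leaf 272450 1 .leaf) 272451 1 .leaf) 272512 1 (.node (.node .leaf 272513 1 .leaf) 272514 1 .leaf))) 272515 1 (.node (.node (.node (.node .leaf 272516 2 .leaf) 272517 2 (.node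 .leaf 272576 1 .leaf)) 272577 1 (.node (.node .leaf 272578 1 .leaf) 272579 1 .leaf)) 272580 2 (.node (.node (.node .leaf 272581 2 .leaf) 272582 3 .leaf) 272583 3 (.node (.node .leaf 272640 1 .leaf) 272641 1 .leaf)))))

def tTree43 : Tree := (.node (.node (.node (.node (.node (.node .leaf 272643 1 .leaf) 272644 3 (.node .leaf 272645 2 .leaf)) 272646 4 (.node (.node .leaf 272647 3 .leaf) 272648 6 .leaf)) 272649 4 (.node (.node (.node .leaf 272704 1 .leaf) 272705 1 .leaf) 272706 2 (.node (.node .leaf 272707 2 .leaf) 272708 3 .leaf))) 272709 3 (.node (.node (.node (.node .leaf 272710 5 .leaf) 272711 4 (.node .leaf 272712 8 .leaf)) 272713 6 (.node (.node .leaf 272714 11 .leaf) 272715 9 .leaf)) 272768 1 (.node (.node (.node .leaf 272769 1 .leaf) 272770 2 .leaf) 272771 2 (.node (.node .leaf 272772 3 .leaf) 272773 3 .leaf)))) 272774 5 (.node (.node (.node (.node (.node .leaf 272775 4 .leaf) 272776 8 (.node .leaf 272777 6 .leaf)) 272778 13 (.node (.node .leaf 272779 9 .leaf) 272780 20 .leaf))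 272781 12 (.node (.node (.node .leaf 272832 1 .leaf) 272833 1 .leaf) 272834 2 (.node (.node .leaf 272835 2 .leaf) 272836 3 .leaf))) 272837 3 (.node (.node (.node (.node .leaf 272838 5 .leaf) 272839 5 (.node .leaf 272840 8 .leaf)) 272841 8 (.node (.node .leaf 272842 13 .leaf) 272843 11 .leaf)) 272844 20 (.node (.node (.node .leaf 272845 16 .leaf) 272846 32 .leaf) 272847 24 (.node (.node .leaf 274432 1 .leaf) 274433 1 .leaf)))))

def tTree44 : Tree := (.node (.node (.node (.node (.node (.node .leaf 274497 1 .leaf) 274498 1 (.node .leaf 274499 1 .leaf)) 274560 1 (.node (.node .leaf 274561 1 .leaf) 274562 1 .leaf)) 274563 1 (.node (.node (.node .leaf 274564 2 .leaf) 274565 2 .leaf) 274624 1 (.node (.node .leaf 274625 1 .leaf) 274626 1 .leaf))) 274627 1 (.node (.node (.node (.node .leaf 274628 2 .leaf) 274629 2 (.node .leaf 274630 3 .leaf)) 274631 3 (.node (.node .leaf 274688 1 .leaf) 274689 1 .leaf)) 274690 2 (.node (.node (.node .leaf 274691 1 .leaf) 274692 3 .leaf) 274693 2 (.node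 (.node .leaf 274694 4 .leaf) 274695 3 .leaf)))) 274696 6 (.node (.node (.node (.node (.node .leaf 274697 4 .leaf) 274752 1 (.node .leaf 274753 1 .leaf)) 274754 2 (.node (.node .leaf 274755 1 .leaf) 274756 3 .leaf)) 274757 2 (.node (.node (.node .leaf 274758 5 .leaf) 274759 3 .leaf) 274760 8 (.node (.node .leaf 274761 4 .leaf) 274762 11 .leaf))) 274763 6 (.node (.node (.node (.node .leaf 274816 1 .leaf) 274817 1 .leaf) 274818 2 (.node (.node .leaf 274819 2 .leaf) 274820 3 .leaf)) 274821 3 (.node (.node (.node .leaf 274822 5 .leaf) 274823 4 .leaf) 274824 8 (.node (.node .leaf 274825 6 .leaf) 274826 13 .leaf)))))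

def tTree45 : Tree := (.node (.node (.node (.node (.node (.node .leaf 274828 20 .leaf) 274829 12 (.node .leaf 276480 1 .leaf)) 276481 1 (.node (.node .leaf 276544 1 .leaf) 276545 1 .leaf)) 276546 1 (.node (.node (.node .leaf 276547 1 .leaf) 276608 1 .leaf) 276609 1 (.node (.node .leaf 276610 1 .leaf) 276611 1 .leaf))) 276612 2 (.node (.node (.node (.node .leaf 276613 2 .leaf) 276672 1 (.node .leaf 276673 1 .leaf)) 276674 1 (.node (.node .leaf 276675 1 .leaf) 276676 2 .leaf)) 276677 2 (.node (.node (.node .leaf 276678 3 .leaf) 276679 3 .leaf) 276736 1 (.node (.node .leaf 276737 1 .leaf) 276738 2 .leaf)))) 276739 1 (.node (.node (.node (.node (.node .leaf 276740 3 .leaf) 276741 2 (.node .leaf 276742 4 .leaf)) 276743 3 (.node (.node .leaf 276744 6 .leaf) 276745 4 .leaf)) 276800 1 (.node (.node (.node .leaf 276801 1 .leaf) 276802 2 .leaf) 276803 1 (.node (.node .leaf 276804 3 .leaf) 276805 2 .leaf))) 276806 5 (.node (.node (.node (.node .leaf 276807 3 .leaf) 276808 8 (.node .leaf 276809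 4 .leaf)) 276810 11 (.node (.node .leaf 276811 6 .leaf) 278528 1 .leaf)) 278529 1 (.node (.node (.node .leaf 278592 1 .leaf) 278593 1 .leaf) 278594 1 (.node (.node .leaf 278595 1 .leaf) 278656 1 .leaf)))))

def tTree46 : Tree := (.node (.node (.node (.node (.node (.node .leaf 278658 1 .leaf) 278659 1 (.node .leaf 278660 2 .leaf)) 278661 2 (.node (.node .leaf 278720 1 .leaf) 278721 1 .leaf)) 278722 1 (.node (.node (.node .leaf 278723 1 .leaf) 278724 2 .leaf) 278725 2 (.node (.node .leaf 278726 3 .leaf) 278727 3 .leaf))) 278784 1 (.node (.node (.node (.node .leaf 278785 1 .leaf) 278786 2 (.node .leaf 278787 1 .leaf)) 278788 3 (.node (.node .leaf 278789 2 .leaf) 278790 4 .leaf)) 278791 3 (.node (.node (.node .leaf 278792 6 .leaf) 278793 4 .leaf) 280576 1 (.node (.node .leaf 280577 1 .leaf) 280640 1 .leaf)))) 280641 1 (.node (.node (.node (.node (.node .leaf 280642 1 .leaf) 280643 1 (.node .leaf 280704 1 .leaf)) 280705 1 (.node (.node .leaf 280706 1 .leaf) 280707 1 .leaf)) 280708 2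 (.node (.node (.node .leaf 280709 2 .leaf) 280768 1 .leaf) 280769 1 (.node (.node .leaf 280770 1 .leaf) 280771 1 .leaf))) 280772 2 (.node (.node (.node (.node .leaf 280773 2 .leaf) 280774 3 (.node .leaf 280775 3 .leaf)) 282624 1 (.node (.node .leaf 282625 1 .leaf) 282688 1 .leaf)) 282689 1 (.node (.node (.node .leaf 282690 1 .leaf) 282691 1 .leaf) 282752 1 (.node (.node .leaf 282753 1 .leaf) 282754 1 .leaf)))))

def tTree47 : Tree := (.node (.node (.node (.node (.node (.node .leaf 282756 2 .leaf) 282757 2 (.node .leaf 284672 1 .leaf)) 284673 1 (.node (.node .leaf 284736 1 .leaf) 284737 1 .leaf)) 284738 1 (.node (.node (.node .leaf 284739 1 .leaf) 286720 1 .leaf) 286721 1 (.node (.node .leaf 331968 1 .leaf) 331969 1 .leaf))) 331970 1 (.node (.node (.node (.node .leaf 331971 1 .leaf) 331972 2 (.node .leaf 331973 2 .leaf)) 331975 3 (.node (.node .leaf 332032 1 .leaf) 332033 1 .leaf)) 332034 1 (.node (.node (.node .leaf 332035 1 .leaf) 332036 2 .leaf) 332037 2 (.node (.node .leaf 332038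 3 .leaf) 332039 3 .leaf)))) 332041 4 (.node (.node (.node (.node (.node .leaf 332096 1 .leaf) 332097 1 (.node .leaf 332098 1 .leaf)) 332099 1 (.node (.node .leaf 332100 2 .leaf) 332101 2 .leaf)) 332102 3 (.node (.node (.node .leaf 332103 3 .leaf) 332104 4 .leaf) 332105 4 (.node (.node .leaf 332107 6 .leaf) 332160 1 .leaf))) 332161 1 (.node (.node (.node (.node .leaf 332162 1 .leaf) 332163 1 (.node .leaf 332164 2 .leaf)) 332165 2 (.node (.node .leaf 332166 3 .leaf) 332167 3 .leaf)) 332168 4 (.node (.node (.node .leaf 332169 4 .leaf) 332170 6 .leaf) 332171 6 (.node (.node .leaf 332173 9 .leaf) 332224 1 .leaf)))))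

def tTree48 : Tree := (.node (.node (.node (.node (.node (.node .leaf 332226 1 .leaf) 332227 1 (.node .leaf 332228 2 .leaf)) 332229 2 (.node (.node .leaf 332230 3 .leaf) 332231 3 .leaf)) 332232 4 (.node (.node (.node .leaf 332233 4 .leaf) 332234 6 .leaf) 332235 6 (.node (.node .leaf 332236 9 .leaf) 332237 9 .leaf))) 332239 12 (.node (.node (.node (.node .leaf 332288 1 .leaf) 332289 1 (.node .leaf 332290 2 .leaf)) 332291 2 (.node (.node .leaf 332292 3 .leaf) 332293 3 .leaf)) 332294 4 (.node (.node (.node .leaf 332295 4 .leaf) 332296 6 .leaf) 332297 6 (.node (.node .leaf 332298 9 .leaf) 332299 9 .leaf)))) 332300 12 (.node (.node (.node (.node (.node .leaf 332301 12 .leaf) 332302 18 (.node .leaf 332303 18 .leaf)) 332305 27 (.node (.node .leaf 332352 1 .leaf) 332353 1 .leaf)) 332354 2 (.node (.node (.node .leaf 332355 2 .leaf) 332356 3 .leaf) 332357 3 (.node (.node .leaf 332358 5 .leaf) 332359 4 .leaf))) 332360 8 (.node (.node (.node (.node .leaf 332361 6 .leaf) 332362 11 .leaf) 332363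 9 (.node (.node .leaf 332364 16 .leaf) 332365 12 .leaf)) 332366 24 (.node (.node (.node .leaf 332367 18 .leaf) 332368 33 .leaf) 332369 27 (.node (.node .leaf 332371 36 .leaf) 333952 1 .leaf)))))

def tTree49 : Tree := (.node (.node (.node (.node (.node (.node .leaf 333954 1 .leaf) 333955 1 (.node .leaf 333956 2 .leaf)) 333957 2 (.node (.node .leaf 334016 1 .leaf) 334017 1 .leaf)) 334018 1 (.node (.node (.node .leaf 334019 1 .leaf) 334020 2 .leaf) 334021 2 (.node (.node .leaf 334022 3 .leaf) 334023 3 .leaf))) 334080 1 (.node (.node (.node (.node .leaf 334081 1 .leaf) 334082 1 (.node .leaf 334083 1 .leaf)) 334084 2 (.node (.node .leaf 334085 2 .leaf) 334086 3 .leaf)) 334087 3 (.node (.node (.node .leaf 334088 4 .leaf) 334089 4 .leaf) 334144 1 (.node (.node .leaf 334145 1 .leaf) 334146 1 .leaf)))) 334147 1 (.node (.node (.node (.node (.node .leaf 334148 2 .leaf) 334149 2 (.node .leaf 334150 3 .leaf)) 334151 3 (.node (.node .leaf 334152 4 .leaf) 334153 4 .leaf)) 334154 6 (.node (.node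 (.node .leaf 334155 6 .leaf) 334208 1 .leaf) 334209 1 (.node (.node .leaf 334210 1 .leaf) 334211 1 .leaf))) 334212 2 (.node (.node (.node (.node .leaf 334213 2 .leaf) 334214 3 (.node .leaf 334215 3 .leaf)) 334216 4 (.node (.node .leaf 334217 4 .leaf) 334218 6 .leaf)) 334219 6 (.node (.node (.node .leaf 334220 9 .leaf) 334221 9 .leaf) 334272 1 (.node (.node .leaf 334273 1 .leaf) 334274 2 .leaf)))))

def tTree50 : Tree := (.node (.node (.node (.node (.node (.node .leaf 334276 3 .leaf) 334277 3 (.node .leaf 334278 4 .leaf)) 334279 4 (.node (.node .leaf 334280 6 .leaf) 334281 6 .leaf)) 334282 9 (.node (.node (.node .leaf 334283 9 .leaf) 334284 12 .leaf) 334285 12 (.node (.node .leaf 334286 18 .leaf) 334287 18 .leaf))) 334336 1 (.node (.node (.node (.node .leaf 334337 1 .leaf) 334338 2 (.node .leaf 334339 2 .leaf)) 334340 3 (.node (.node .leaf 334341 3 .leaf) 334342 5 .leaf)) 334343 4 (.node (.node (.node .leaf 334344 8 .leaf) 334345 6 .leaf) 334346 11 (.node (.node .leaf 334347 9 .leaf)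 334348 16 .leaf)))) 334349 12 (.node (.node (.node (.node (.node .leaf 334350 24 .leaf) 334351 18 (.node .leaf 334352 33 .leaf)) 334353 27 (.node (.node .leaf 335936 1 .leaf) 335937 1 .leaf)) 335938 1 (.node (.node (.node .leaf 335939 1 .leaf) 336000 1 .leaf) 336001 1 (.node (.node .leaf 336002 1 .leaf) 336003 1 .leaf))) 336004 2 (.node (.node (.node (.node .leaf 336005 2 .leaf) 336064 1 (.node .leaf 336065 1 .leaf)) 336066 1 (.node (.node .leaf 336067 1 .leaf) 336068 2 .leaf)) 336069 2 (.node (.node (.node .leaf 336070 3 .leaf) 336071 3 .leaf) 336128 1 (.node (.node .leaf 336129 1 .leaf) 336130 1 .leaf)))))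

def tTree51 : Tree := (.node (.node (.node (.node (.node (.node .leaf 336132 2 .leaf) 336133 2 (.node .leaf 336134 3 .leaf)) 336135 3 (.node (.node .leaf 336136 4 .leaf) 336137 4 .leaf)) 336192 1 (.node (.node (.node .leaf 336193 1 .leaf) 336194 1 .leaf) 336195 1 (.node (.node .leaf 336196 2 .leaf) 336197 2 .leaf))) 336198 3 (.node (.node (.node (.node .leaf 336199 3 .leaf) 336200 4 (.node .leaf 336201 4 .leaf)) 336202 6 (.node (.node .leaf 336203 6 .leaf) 336256 1 .leaf)) 336257 1 (.node (.node (.node .leaf 336258 2 .leaf) 336259 2 .leaf) 336260 3 (.node (.node .leaf 336261 3 .leaf) 336262 4 .leaf)))) 336263 4 (.node (.node (.node (.node (.node .leaf 336264 6 .leaf) 336265 6 (.node .leaf 336266 9 .leaf)) 336267 9 (.node (.node .leaf 336268 12 .leaf) 336269 12 .leaf)) 336320 1 (.node (.node (.node .leaf 336321 1 .leaf) 336322 2 .leaf) 336323 2 (.node (.node .leaf 336324 3 .leaf) 336325 3 .leaf))) 336326 5 (.node (.node (.node (.node .leaf 336327 4 .leaf) 336328 8 (.node .leaf 336329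 6 .leaf)) 336330 11 (.node (.node .leaf 336331 9 .leaf) 336332 16 .leaf)) 336333 12 (.node (.node (.node .leaf 336334 24 .leaf) 336335 18 .leaf) 337920 1 (.node (.node .leaf 337921 1 .leaf) 337984 1 .leaf)))))

def tTree52 : Tree := (.node (.node (.node (.node (.node (.node .leaf 337986 1 .leaf) 337987 1 (.node .leaf 338048 1 .leaf)) 338049 1 (.node (.node .leaf 338050 1 .leaf) 338051 1 .leaf)) 338052 2 (.node (.node (.node .leaf 338053 2 .leaf) 338112 1 .leaf) 338113 1 (.node (.node .leaf 338114 1 .leaf) 338115 1 .leaf))) 338116 2 (.node (.node (.node (.node .leaf 338117 2 .leaf) 338118 3 (.node .leaf 338119 3 .leaf)) 338176 1 (.node (.node .leaf 338177 1 .leaf) 338178 1 .leaf)) 338179 1 (.node (.node (.node .leaf 338180 2 .leaf) 338181 2 .leaf) 338182 3 (.node (.node .leaf 338183 3 .leaf) 338184 4 .leaf)))) 338185 4 (.node (.node (.node (.node (.node .leaf 338240 1 .leaf) 338241 1 (.node .leaf 338242 2 .leaf)) 338243 2 (.node (.node .leaf 338244 3 .leaf) 338245 3 .leaf)) 338246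 4 (.node (.node (.node .leaf 338247 4 .leaf) 338248 6 .leaf) 338249 6 (.node (.node .leaf 338250 9 .leaf) 338251 9 .leaf))) 338304 1 (.node (.node (.node (.node .leaf 338305 1 .leaf) 338306 2 .leaf) 338307 2 (.node (.node .leaf 338308 3 .leaf) 338309 3 .leaf)) 338310 5 (.node (.node (.node .leaf 338311 4 .leaf) 338312 8 .leaf) 338313 6 (.node (.node .leaf 338314 11 .leaf) 338315 9 .leaf)))))

def tTree53 : Tree := (.node (.node (.node (.node (.node (.node .leaf 338317 12 .leaf) 339968 1 (.node .leaf 339969 1 .leaf)) 340032 1 (.node (.node .leaf 340033 1 .leaf) 340034 1 .leaf)) 340035 1 (.node (.node (.node .leaf 340096 1 .leaf) 340097 1 .leaf) 340098 1 (.node (.node .leaf 340099 1 .leaf) 340100 2 .leaf))) 340101 2 (.node (.node (.node (.node .leaf 340160 1 .leaf) 340161 1 (.node .leaf 340162 1 .leaf)) 340163 1 (.node (.node .leaf 340164 2 .leaf) 340165 2 .leaf)) 340166 3 (.node (.node (.node .leaf 340167 3 .leaf) 340224 1 .leaf) 340225 1 (.node (.node .leaf 340226 1 .leaf) 340227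 1 .leaf)))) 340228 2 (.node (.node (.node (.node (.node .leaf 340229 2 .leaf) 340230 3 (.node .leaf 340231 3 .leaf)) 340232 4 (.node (.node .leaf 340233 4 .leaf) 340288 1 .leaf)) 340289 1 (.node (.node (.node .leaf 340290 2 .leaf) 340291 1 .leaf) 340292 3 (.node (.node .leaf 340293 2 .leaf) 340294 4 .leaf))) 340295 3 (.node (.node (.node (.node .leaf 340296 6 .leaf) 340297 4 (.node .leaf 340298 9 .leaf)) 340299 6 (.node (.node .leaf 342016 1 .leaf) 342017 1 .leaf)) 342080 1 (.node (.node (.node .leaf 342081 1 .leaf) 342082 1 .leaf) 342083 1 (.node (.node .leaf 342144 1 .leaf) 342145 1 .leaf)))))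

def tTree54 : Tree := (.node (.node (.node (.node (.node (.node .leaf 342147 1 .leaf) 342148 2 (.node .leaf 342149 2 .leaf)) 342208 1 (.node (.node .leaf 342209 1 .leaf) 342210 1 .leaf)) 342211 1 (.node (.node (.node .leaf 342212 2 .leaf) 342213 2 .leaf) 342214 3 (.node (.node .leaf 342215 3 .leaf) 342272 1 .leaf))) 342273 1 (.node (.node (.node (.node .leaf 342274 1 .leaf) 342275 1 (.node .leaf 342276 2 .leaf)) 342277 2 (.node (.node .leaf 342278 3 .leaf) 342279 3 .leaf)) 342280 4 (.node (.node (.node .leaf 342281 4 .leaf) 344064 1 .leaf) 344065 1 (.node (.node .leaf 344128 1 .leaf) 344129 1 .leaf)))) 344130 1 (.node (.node (.node (.node (.node .leaf 344131 1 .leaf) 344192 1 (.node .leaf 344193 1 .leaf)) 344194 1 (.node (.node .leaf 344195 1 .leaf) 344196 2 .leaf)) 344197 2 (.node (.node (.node .leaf 344256 1 .leaf) 344257 1 .leaf) 344258 1 (.node (.node .leaf 344259 1 .leaf) 344260 2 .leaf))) 344261 2 (.node (.node (.node (.node .leaf 344262 3 .leaf) 344263 3 (.node .leaf 346112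 1 .leaf)) 346113 1 (.node (.node .leaf 346176 1 .leaf) 346177 1 .leaf)) 346178 1 (.node (.node (.node .leaf 346179 1 .leaf) 346240 1 .leaf) 346241 1 (.node (.node .leaf 346242 1 .leaf) 346243 1 .leaf)))))

def tTree55 : Tree := (.node (.node (.node (.node (.node (.node .leaf 346245 2 .leaf) 348160 1 (.node .leaf 348161 1 .leaf)) 348224 1 (.node (.node .leaf 348225 1 .leaf) 348226 1 .leaf)) 348227 1 (.node (.node (.node .leaf 350208 1 .leaf) 350209 1 .leaf) 397568 1 (.node (.node .leaf 397569 1 .leaf) 397570 1 .leaf))) 397571 1 (.node (.node (.node (.node .leaf 397572 2 .leaf) 397573 2 (.node .leaf 397574 3 .leaf)) 397575 3 (.node (.node .leaf 397577 4 .leaf) 397632 1 .leaf)) 397633 1 (.node (.node (.node .leaf 397634 1 .leaf) 397635 1 .leaf) 397636 2 (.node (.node .leaf 397637 2 .leaf) 397638 3 .leaf)))) 397639 3 (.node (.node (.node (.node (.node .leaf 397640 4 .leaf) 397641 4 (.node .leaf 397643 6 .leaf)) 397696 1 (.node (.node .leaf 397697 1 .leaf) 397698 1 .leaf)) 397699 1 (.node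 (.node (.node .leaf 397700 2 .leaf) 397701 2 .leaf) 397702 3 (.node (.node .leaf 397703 3 .leaf) 397704 4 .leaf))) 397705 4 (.node (.node (.node (.node .leaf 397706 6 .leaf) 397707 6 (.node .leaf 397709 9 .leaf)) 397760 1 (.node (.node .leaf 397761 1 .leaf) 397762 1 .leaf)) 397763 1 (.node (.node (.node .leaf 397764 2 .leaf) 397765 2 .leaf) 397766 3 (.node (.node .leaf 397767 3 .leaf) 397768 4 .leaf)))))

def tTree56 : Tree := (.node (.node (.node (.node (.node (.node .leaf 397770 6 .leaf) 397771 6 (.node .leaf 397772 9 .leaf)) 397773 9 (.node (.node .leaf 397775 12 .leaf) 397824 1 .leaf)) 397825 1 (.node (.node (.node .leaf 397826 1 .leaf) 397827 1 .leaf) 397828 2 (.node (.node .leaf 397829 2 .leaf) 397830 3 .leaf))) 397831 3 (.node (.node (.node (.node .leaf 397832 4 .leaf) 397833 4 (.node .leaf 397834 6 .leaf)) 397835 6 (.node (.node .leaf 397836 9 .leaf) 397837 9 .leaf)) 397838 12 (.node (.node (.node .leaf 397839 12 .leaf) 397841 18 .leaf) 399552 1 (.node (.node .leaf 399553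 1 .leaf) 399554 1 .leaf)))) 399555 1 (.node (.node (.node (.node (.node .leaf 399556 2 .leaf) 399557 2 (.node .leaf 399558 3 .leaf)) 399559 3 (.node (.node .leaf 399616 1 .leaf) 399617 1 .leaf)) 399618 1 (.node (.node (.node .leaf 399619 1 .leaf) 399620 2 .leaf) 399621 2 (.node (.node .leaf 399622 3 .leaf) 399623 3 .leaf))) 399624 4 (.node (.node (.node (.node .leaf 399625 4 .leaf) 399680 1 .leaf) 399681 1 (.node (.node .leaf 399682 1 .leaf) 399683 1 .leaf)) 399684 2 (.node (.node (.node .leaf 399685 2 .leaf) 399686 3 .leaf) 399687 3 (.node (.node .leaf 399688 4 .leaf) 399689 4 .leaf)))))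

def tTree57 : Tree := (.node (.node (.node (.node (.node (.node .leaf 399691 6 .leaf) 399744 1 (.node .leaf 399745 1 .leaf)) 399746 1 (.node (.node .leaf 399747 1 .leaf) 399748 2 .leaf)) 399749 2 (.node (.node (.node .leaf 399750 3 .leaf) 399751 3 .leaf) 399752 4 (.node (.node .leaf 399753 4 .leaf) 399754 6 .leaf))) 399755 6 (.node (.node (.node (.node .leaf 399756 9 .leaf) 399757 9 (.node .leaf 399808 1 .leaf)) 399809 1 (.node (.node .leaf 399810 1 .leaf) 399811 1 .leaf)) 399812 2 (.node (.node (.node .leaf 399813 2 .leaf) 399814 3 .leaf) 399815 3 (.node (.node .leaf 399816 4 .leaf) 399817 4 .leaf)))) 399818 6 (.node (.node (.node (.node (.node .leaf 399819 6 .leaf) 399820 9 (.node .leaf 399821 9 .leaf)) 399822 12 (.node (.node .leaf 399823 12 .leaf) 401536 1 .leaf)) 401537 1 (.node (.node (.node .leaf 401538 1 .leaf) 401539 1 .leaf) 401540 2 (.node (.node .leaf 401541 2 .leaf) 401600 1 .leaf))) 401601 1 (.node (.node (.node (.node .leaf 401602 1 .leaf) 401603 1 (.node .leaf 401604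 2 .leaf)) 401605 2 (.node (.node .leaf 401606 3 .leaf) 401607 3 .leaf)) 401664 1 (.node (.node (.node .leaf 401665 1 .leaf) 401666 1 .leaf) 401667 1 (.node (.node .leaf 401668 2 .leaf) 401669 2 .leaf)))))

def tTree58 : Tree := (.node (.node (.node (.node (.node (.node .leaf 401671 3 .leaf) 401672 4 (.node .leaf 401673 4 .leaf)) 401728 1 (.node (.node .leaf 401729 1 .leaf) 401730 1 .leaf)) 401731 1 (.node (.node (.node .leaf 401732 2 .leaf) 401733 2 .leaf) 401734 3 (.node (.node .leaf 401735 3 .leaf) 401736 4 .leaf))) 401737 4 (.node (.node (.node (.node .leaf 401738 6 .leaf) 401739 6 (.node .leaf 401792 1 .leaf)) 401793 1 (.node (.node .leaf 401794 1 .leaf) 401795 1 .leaf)) 401796 2 (.node (.node (.node .leaf 401797 2 .leaf) 401798 3 .leaf) 401799 3 (.node (.node .leaf 401800 4 .leaf) 401801 4 .leaf)))) 401802 6 (.node (.node (.node (.node (.node .leaf 401803 6 .leaf) 401804 9 (.node .leaf 401805 9 .leaf)) 403520 1 (.node (.node .leaf 403521 1 .leaf) 403522 1 .leaf)) 403523 1 (.node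 (.node (.node .leaf 403584 1 .leaf) 403585 1 .leaf) 403586 1 (.node (.node .leaf 403587 1 .leaf) 403588 2 .leaf))) 403589 2 (.node (.node (.node (.node .leaf 403648 1 .leaf) 403649 1 (.node .leaf 403650 1 .leaf)) 403651 1 (.node (.node .leaf 403652 2 .leaf) 403653 2 .leaf)) 403654 3 (.node (.node (.node .leaf 403655 3 .leaf) 403712 1 .leaf) 403713 1 (.node (.node .leaf 403714 1 .leaf) 403715 1 .leaf)))))

def tTree59 : Tree := (.node (.node (.node (.node (.node (.node .leaf 403717 2 .leaf) 403718 3 (.node .leaf 403719 3 .leaf)) 403720 4 (.node (.node .leaf 403721 4 .leaf) 403776 1 .leaf)) 403777 1 (.node (.node (.node .leaf 403778 1 .leaf) 403779 1 .leaf) 403780 2 (.node (.node .leaf 403781 2 .leaf) 403782 3 .leaf))) 403783 3 (.node (.node (.node (.node .leaf 403784 4 .leaf) 403785 4 (.node .leaf 403786 6 .leaf)) 403787 6 (.node (.node .leaf 405504 1 .leaf) 405505 1 .leaf)) 405568 1 (.node (.node (.node .leaf 405569 1 .leaf) 405570 1 .leaf) 405571 1 (.node (.node .leaf 405632 1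 .leaf) 405633 1 .leaf)))) 405634 1 (.node (.node (.node (.node (.node .leaf 405635 1 .leaf) 405636 2 (.node .leaf 405637 2 .leaf)) 405696 1 (.node (.node .leaf 405697 1 .leaf) 405698 1 .leaf)) 405699 1 (.node (.node (.node .leaf 405700 2 .leaf) 405701 2 .leaf) 405702 3 (.node (.node .leaf 405703 3 .leaf) 405760 1 .leaf))) 405761 1 (.node (.node (.node (.node .leaf 405762 1 .leaf) 405763 1 (.node .leaf 405764 2 .leaf)) 405765 2 (.node (.node .leaf 405766 3 .leaf) 405767 3 .leaf)) 405768 4 (.node (.node (.node .leaf 405769 4 .leaf) 407552 1 .leaf) 407553 1 (.node (.node .leaf 407616 1 .leaf) 407617 1 .leaf)))))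

def tTree60 : Tree := (.node (.node (.node (.node (.node (.node .leaf 407619 1 .leaf) 407680 1 (.node .leaf 407681 1 .leaf)) 407682 1 (.node (.node .leaf 407683 1 .leaf) 407684 2 .leaf)) 407685 2 (.node (.node (.node .leaf 407744 1 .leaf) 407745 1 .leaf) 407746 1 (.node (.node .leaf 407747 1 .leaf) 407748 2 .leaf))) 407749 2 (.node (.node (.node (.node .leaf 407750 3 .leaf) 407751 3 (.node .leaf 409600 1 .leaf)) 409601 1 (.node (.node .leaf 409664 1 .leaf) 409665 1 .leaf)) 409666 1 (.node (.node (.node .leaf 409667 1 .leaf) 409728 1 .leaf) 409729 1 (.node (.node .leaf 409730 1 .leaf) 409731 1 .leaf)))) 409732 2 (.node (.node (.node (.node (.node .leaf 409733 2 .leaf) 411648 1 (.node .leaf 411649 1 .leaf)) 411712 1 (.node (.node .leaf 411713 1 .leaf) 411714 1 .leaf)) 411715 1 (.node (.node (.node .leaf 413696 1 .leaf) 413697 1 .leaf) 463168 1 (.node (.node .leaf 463169 1 .leaf) 463170 1 .leaf))) 463171 1 (.node (.node (.node (.node .leaf 463172 2 .leaf) 463173 2 .leaf) 463174 3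 (.node (.node .leaf 463175 3 .leaf) 463176 4 .leaf)) 463177 4 (.node (.node (.node .leaf 463179 6 .leaf) 463232 1 .leaf) 463233 1 (.node (.node .leaf 463234 1 .leaf) 463235 1 .leaf)))))

def tTree61 : Tree := (.node (.node (.node (.node (.node (.node .leaf 463237 2 .leaf) 463238 3 (.node .leaf 463239 3 .leaf)) 463240 4 (.node (.node .leaf 463241 4 .leaf) 463242 6 .leaf)) 463243 6 (.node (.node (.node .leaf 463245 9 .leaf) 463296 1 .leaf) 463297 1 (.node (.node .leaf 463298 1 .leaf) 463299 1 .leaf))) 463300 2 (.node (.node (.node (.node .leaf 463301 2 .leaf) 463302 3 (.node .leaf 463303 3 .leaf)) 463304 4 (.node (.node .leaf 463305 4 .leaf) 463306 6 .leaf)) 463307 6 (.node (.node (.node .leaf 463308 9 .leaf) 463309 9 .leaf) 463311 12 (.node (.node .leaf 465152 1 .leaf) 465153 1 .leaf)))) 465154 1 (.node (.node (.node (.node (.node .leaf 465155 1 .leaf) 465156 2 (.node .leaf 465157 2 .leaf)) 465158 3 (.node (.node .leaf 465159 3 .leaf) 465160 4 .leaf)) 465161 4 (.node (.node (.node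 .leaf 465216 1 .leaf) 465217 1 .leaf) 465218 1 (.node (.node .leaf 465219 1 .leaf) 465220 2 .leaf))) 465221 2 (.node (.node (.node (.node .leaf 465222 3 .leaf) 465223 3 (.node .leaf 465224 4 .leaf)) 465225 4 (.node (.node .leaf 465226 6 .leaf) 465227 6 .leaf)) 465280 1 (.node (.node (.node .leaf 465281 1 .leaf) 465282 1 .leaf) 465283 1 (.node (.node .leaf 465284 2 .leaf) 465285 2 .leaf)))))

def tTree62 : Tree := (.node (.node (.node (.node (.node (.node .leaf 465287 3 .leaf) 465288 4 (.node .leaf 465289 4 .leaf)) 465290 6 (.node (.node .leaf 465291 6 .leaf) 465292 9 .leaf)) 465293 9 (.node (.node (.node .leaf 467136 1 .leaf) 467137 1 .leaf) 467138 1 (.node (.node .leaf 467139 1 .leaf) 467140 2 .leaf))) 467141 2 (.node (.node (.node (.node .leaf 467142 3 .leaf) 467143 3 (.node .leaf 467200 1 .leaf)) 467201 1 (.node (.node .leaf 467202 1 .leaf) 467203 1 .leaf)) 467204 2 (.node (.node (.node .leaf 467205 2 .leaf) 467206 3 .leaf) 467207 3 (.node (.node .leaf 467208 4 .leaf) 467209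 4 .leaf)))) 467264 1 (.node (.node (.node (.node (.node .leaf 467265 1 .leaf) 467266 1 (.node .leaf 467267 1 .leaf)) 467268 2 (.node (.node .leaf 467269 2 .leaf) 467270 3 .leaf)) 467271 3 (.node (.node (.node .leaf 467272 4 .leaf) 467273 4 .leaf) 467274 6 (.node (.node .leaf 467275 6 .leaf) 469120 1 .leaf))) 469121 1 (.node (.node (.node (.node .leaf 469122 1 .leaf) 469123 1 (.node .leaf 469124 2 .leaf)) 469125 2 (.node (.node .leaf 469184 1 .leaf) 469185 1 .leaf)) 469186 1 (.node (.node (.node .leaf 469187 1 .leaf) 469188 2 .leaf) 469189 2 (.node (.node .leaf 469190 3 .leaf) 469191 3 .leaf)))))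

def tTree63 : Tree := (.node (.node (.node (.node (.node (.node .leaf 469249 1 .leaf) 469250 1 (.node .leaf 469251 1 .leaf)) 469252 2 (.node (.node .leaf 469253 2 .leaf) 469254 3 .leaf)) 469255 3 (.node (.node (.node .leaf 469256 4 .leaf) 469257 4 .leaf) 471104 1 (.node (.node .leaf 471105 1 .leaf) 471106 1 .leaf))) 471107 1 (.node (.node (.node (.node .leaf 471168 1 .leaf) 471169 1 (.node .leaf 471170 1 .leaf)) 471171 1 (.node (.node .leaf 471172 2 .leaf) 471173 2 .leaf)) 471232 1 (.node (.node (.node .leaf 471233 1 .leaf) 471234 1 .leaf) 471235 1 (.node (.node .leaf 471236 2 .leaf) 471237 2 .leaf)))) 471238 3 (.node (.node (.node (.node (.node .leaf 471239 3 .leaf) 473088 1 (.node .leaf 473089 1 .leaf)) 473152 1 (.node (.node .leaf 473153 1 .leaf) 473154 1 .leaf)) 473155 1 (.node (.node (.node .leaf 473216 1 .leaf) 473217 1 .leaf) 473218 1 (.node (.node .leaf 473219 1 .leaf) 473220 2 .leaf))) 473221 2 (.node (.node (.node (.node .leaf 475136 1 .leaf) 475137 1 (.node .leaf 475200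 1 .leaf)) 475201 1 (.node (.node .leaf 475202 1 .leaf) 475203 1 .leaf)) 477184 1 (.node (.node (.node .leaf 477185 1 .leaf) 528768 1 .leaf) 528769 1 (.node (.node .leaf 528770 1 .leaf) 528771 1 .leaf)))))

def tTree64 : Tree := (.node (.node (.node (.node (.node (.node .leaf 528773 2 .leaf) 528774 3 (.node .leaf 528775 3 .leaf)) 528776 4 (.node (.node .leaf 528777 4 .leaf) 528778 6 .leaf)) 528779 6 (.node (.node (.node .leaf 528781 9 .leaf) 530752 1 .leaf) 530753 1 (.node (.node .leaf 530754 1 .leaf) 530755 1 .leaf))) 530756 2 (.node (.node (.node (.node .leaf 530757 2 .leaf) 530758 3 (.node .leaf 530759 3 .leaf)) 530760 4 (.node (.node .leaf 530761 4 .leaf) 530762 6 .leaf)) 530763 6 (.node (.node (.node .leaf 532736 1 .leaf) 532737 1 .leaf) 532738 1 (.node (.node .leaf 532739 1 .leaf) 532740 2 .leaf)))) 532741 2 (.node (.node (.node (.node (.node .leaf 532742 3 .leaf) 532743 3 (.node .leaf 532744 4 .leaf)) 532745 4 (.node (.node .leaf 534720 1 .leaf) 534721 1 .leaf)) 534722 1 (.node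 (.node (.node .leaf 534723 1 .leaf) 534724 2 .leaf) 534725 2 (.node (.node .leaf 534726 3 .leaf) 534727 3 .leaf))) 536704 1 (.node (.node (.node (.node .leaf 536705 1 .leaf) 536706 1 .leaf) 536707 1 (.node (.node .leaf 536708 2 .leaf) 536709 2 .leaf)) 538688 1 (.node (.node (.node .leaf 538689 1 .leaf) 538690 1 .leaf) 538691 1 (.node (.node .leaf 540672 1 .leaf) 540673 1 .leaf)))))

def tTree : Tree := (.node (.node (.node (.node (.node (.node tTree1 135618 2 tTree2) 135811 2 (.node tTree3 135947 15 tTree4)) 137347 1 (.node (.node tTree5 137669 3 tTree6) 137859 2 (.node tTree7 138003 110 tTree8))) 139587 2 (.node (.node (.node tTree9 139789 22 tTree10) 139979 15 (.node tTree11 141634 2 tTree12)) 141835 11 (.node (.node tTree13 143424 1 tTree14) 143756 25 (.node tTree15 144013 20 tTree16)))) 145796 3 (.node (.node (.node (.node tTree17 147585 1 tTree18) 147911 3 (.node tTree19 149832 9 tTree20)) 151877 2 (.node (.node tTree21 155780 3 tTree22) 200962 2 (.node tTree23 201222 5 tTree24)))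 201408 1 (.node (.node (.node tTree25 203017 6 tTree26) 203273 9 (.node tTree27 204801 1 tTree28)) 205194 14 (.node (.node tTree29 205390 43 tTree30) 207236 3 (.node tTree31 209026 1 tTree32))))) 209347 2 (.node (.node (.node (.node (.node tTree33 211273 4 tTree34) 213317 2 (.node tTree35 217283 1 tTree36)) 266565 2 (.node (.node tTree37 266817 1 tTree38) 268483 1 (.node tTree39 268747 11 tTree40))) 270466 1 (.node (.node (.node tTree41 270788 3 tTree42) 272642 2 (.node tTree43 274496 1 tTree44)) 274827 9 (.node (.node tTree45 278657 1 tTree46) 282755 1 (.node tTree47 332225 1 tTree48)))) 333953 1 (.node (.node (.node (.node tTree49 334275 2 tTree50) 336131 1 (.node tTree51 337985 1 tTree52)) 338316 16 (.node (.node tTree53 342146 1 tTree54) 346244 2 (.node tTree55 397769 4 tTree56))) 399690 6 (.node (.node (.node tTree57 401670 3 tTree58) 403716 2 (.node tTree59 407618 1 tTree60)) 463236 2 (.node (.node tTree61 465286 3 tTree62) 469248 1 (.node tTree63 528772 2 tTree64))))))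

def dTree65 : Tree := (.node (.node (.node (.node (.node (.node (.node .leaf 2048 1 .leaf) 2080 0 .leaf) 2112 1 (.node .leaf 2113 1 .leaf)) 2144 1 (.node (.node .leaf 2145 1 .leaf) 2146 2 (.node .leaf 2176 1 .leaf))) 2177 1 (.node (.node (.node (.node .leaf 2178 2 .leaf) 2179 4 .leaf) 2208 1 (.node .leaf 2209 1 .leaf)) 2210 2 (.node (.node .leaf 2211 4 .leaf) 2212 6 (.node .leaf 2240 1 .leaf)))) 2241 1 (.node (.node (.node (.node (.node .leaf 2242 2 .leaf) 2243 4 .leaf) 2244 6 (.node .leaf 2245 10 .leaf)) 2272 1 (.node (.node .leaf 2273 1 .leaf) 2274 2 (.node .leaf 2275 4 .leaf))) 2276 6 (.node (.node (.node (.node .leaf 2277 10 .leaf) 2278 16 .leaf) 2304 1 (.node .leaf 2305 1 .leaf)) 2306 2 (.node (.node .leaf 2307 4 .leaf) 2308 6 (.node .leaf 2309 10 .leaf))))) 2310 18 (.node (.node (.node (.node (.node (.node .leaf 2311 28 .leaf) 2336 1 .leaf) 2337 1 (.node .leaf 2338 2 .leaf)) 2339 4 (.node (.node .leaf 2340 6 .leaf) 2341 10 (.node .leaf 2342 18 .leaf))) 2343 30 (.node (.node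 (.node (.node .leaf 2344 44 .leaf) 2368 1 .leaf) 2369 1 (.node .leaf 2370 2 .leaf)) 2371 4 (.node (.node .leaf 2372 6 .leaf) 2373 10 (.node .leaf 2374 18 .leaf)))) 2375 30 (.node (.node (.node (.node (.node .leaf 2376 50 .leaf) 2377 80 .leaf) 2400 1 (.node .leaf 2401 1 .leaf)) 2402 2 (.node (.node .leaf 2403 4 .leaf) 2404 6 (.node .leaf 2405 10 .leaf))) 2406 18 (.node (.node (.node (.node .leaf 2407 30 .leaf) 2408 50 .leaf) 2409 86 (.node .leaf 2410 124 .leaf)) 2432 1 (.node (.node .leaf 2433 1 .leaf) 2434 2 (.node .leaf 2435 4 .leaf))))))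

def dTree66 : Tree := (.node (.node (.node (.node (.node (.node (.node .leaf 2437 10 .leaf) 2438 18 .leaf) 2439 30 (.node .leaf 2440 50 .leaf)) 2441 86 (.node (.node .leaf 2442 146 .leaf) 2443 224 (.node .leaf 2464 1 .leaf))) 2465 1 (.node (.node (.node (.node .leaf 2466 2 .leaf) 2467 4 .leaf) 2468 6 (.node .leaf 2469 10 .leaf)) 2470 18 (.node (.node .leaf 2471 30 .leaf) 2472 50 (.node .leaf 2473 86 .leaf)))) 2474 146 (.node (.node (.node (.node (.node .leaf 2475 246 .leaf) 2476 364 .leaf) 2496 1 (.node .leaf 2497 1 .leaf)) 2498 2 (.node (.node .leaf 2499 4 .leaf) 2500 6 (.node .leaf 2501 10 .leaf))) 2502 18 (.node (.node (.node (.node .leaf 2503 30 .leaf) 2504 50 .leaf) 2505 86 (.node .leaf 2506 146 .leaf)) 2507 246 (.node (.node .leaf 2508 418 .leaf) 2509 616 (.node .leaf 3072 1 .leaf))))) 3104 0 (.node (.node (.node (.node (.node (.node .leaf 3136 0 .leaf) 3137 0 .leaf) 3168 1 (.node .leaf 3169 1 .leaf)) 3170 2 (.node (.node .leaf 3200 1 .leaf) 3201 1 (.node .leaf 3202 2 .leaf)))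 3203 3 (.node (.node (.node (.node .leaf 3232 1 .leaf) 3233 1 .leaf) 3234 2 (.node .leaf 3235 3 .leaf)) 3236 4 (.node (.node .leaf 3264 1 .leaf) 3265 1 (.node .leaf 3266 2 .leaf)))) 3267 4 (.node (.node (.node (.node (.node .leaf 3268 6 .leaf) 3269 9 .leaf) 3296 1 (.node .leaf 3297 1 .leaf)) 3298 2 (.node (.node .leaf 3299 4 .leaf) 3300 6 (.node .leaf 3301 10 .leaf))) 3302 12 (.node (.node (.node (.node .leaf 3328 1 .leaf) 3329 1 .leaf) 3330 2 (.node .leaf 3331 4 .leaf)) 3332 6 (.node (.node .leaf 3333 10 .leaf) 3334 16 (.node .leaf 3335 24 .leaf))))))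

def dTree67 : Tree := (.node (.node (.node (.node (.node (.node (.node .leaf 3361 1 .leaf) 3362 2 .leaf) 3363 4 (.node .leaf 3364 6 .leaf)) 3365 10 (.node (.node .leaf 3366 18 .leaf) 3367 28 (.node .leaf 3368 36 .leaf))) 3392 1 (.node (.node (.node (.node .leaf 3393 1 .leaf) 3394 2 .leaf) 3395 4 (.node .leaf 3396 6 .leaf)) 3397 10 (.node (.node .leaf 3398 18 .leaf) 3399 30 (.node .leaf 3400 48 .leaf)))) 3401 66 (.node (.node (.node (.node (.node .leaf 3424 1 .leaf) 3425 1 .leaf) 3426 2 (.node .leaf 3427 4 .leaf)) 3428 6 (.node (.node .leaf 3429 10 .leaf) 3430 18 (.node .leaf 3431 30 .leaf))) 3432 50 (.node (.node (.node (.node .leaf 3433 80 .leaf) 3434 96 .leaf) 3456 1 (.node .leaf 3457 1 .leaf)) 3458 2 (.node (.node .leaf 3459 4 .leaf) 3460 6 (.node .leaf 3461 10 .leaf))))) 3462 18 (.node (.node (.node (.node (.node (.node .leaf 3463 30 .leaf) 3464 50 .leaf) 3465 86 (.node .leaf 3466 136 .leaf)) 3467 186 (.node (.node .leaf 3488 1 .leaf) 3489 1 (.node .leaf 3490 2 .leaf))) 3491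 4 (.node (.node (.node (.node .leaf 3492 6 .leaf) 3493 10 .leaf) 3494 18 (.node .leaf 3495 30 .leaf)) 3496 50 (.node (.node .leaf 3497 86 .leaf) 3498 146 (.node .leaf 3499 232 .leaf)))) 3500 288 (.node (.node (.node (.node (.node .leaf 4096 1 .leaf) 4128 0 .leaf) 4160 0 (.node .leaf 4161 0 .leaf)) 4192 0 (.node (.node .leaf 4193 0 .leaf) 4194 0 (.node .leaf 4224 1 .leaf))) 4225 1 (.node (.node (.node (.node .leaf 4226 2 .leaf) 4227 3 .leaf) 4256 1 (.node .leaf 4257 1 .leaf)) 4258 2 (.node (.node .leaf 4259 3 .leaf) 4260 4 (.node .leaf 4288 1 .leaf))))))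

def dTree68 : Tree := (.node (.node (.node (.node (.node (.node (.node .leaf 4290 2 .leaf) 4291 3 .leaf) 4292 4 (.node .leaf 4293 6 .leaf)) 4320 1 (.node (.node .leaf 4321 1 .leaf) 4322 2 (.node .leaf 4323 3 .leaf))) 4324 4 (.node (.node (.node (.node .leaf 4325 6 .leaf) 4326 9 .leaf) 4352 1 (.node .leaf 4353 1 .leaf)) 4354 2 (.node (.node .leaf 4355 4 .leaf) 4356 6 (.node .leaf 4357 9 .leaf)))) 4358 12 (.node (.node (.node (.node (.node .leaf 4359 18 .leaf) 4384 1 .leaf) 4385 1 (.node .leaf 4386 2 .leaf)) 4387 4 (.node (.node .leaf 4388 6 .leaf) 4389 10 (.node .leaf 4390 16 .leaf))) 4391 24 (.node (.node (.node (.node .leaf 4392 27 .leaf) 4416 1 .leaf) 4417 1 (.node .leaf 4418 2 .leaf)) 4419 4 (.node (.node .leaf 4420 6 .leaf) 4421 10 (.node .leaf 4422 16 .leaf))))) 4423 26 (.node (.node (.node (.node (.node (.node .leaf 4424 40 .leaf) 4425 48 .leaf) 4448 1 (.node .leaf 4449 1 .leaf)) 4450 2 (.node (.node .leaf 4451 4 .leaf) 4452 6 (.node .leaf 4453 10 .leaf))) 4454 16 (.node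 (.node (.node (.node .leaf 4455 26 .leaf) 4456 40 .leaf) 4457 64 (.node .leaf 4458 72 .leaf)) 4480 1 (.node (.node .leaf 4481 1 .leaf) 4482 2 (.node .leaf 4483 4 .leaf)))) 4484 6 (.node (.node (.node (.node (.node .leaf 4485 10 .leaf) 4486 18 .leaf) 4487 28 (.node .leaf 4488 44 .leaf)) 4489 70 (.node (.node .leaf 4490 105 .leaf) 4491 132 (.node .leaf 5120 1 .leaf))) 5152 0 (.node (.node (.node (.node .leaf 5184 0 .leaf) 5185 0 .leaf) 5216 0 (.node .leaf 5217 0 .leaf)) 5218 0 (.node (.node .leaf 5248 0 .leaf) 5249 0 (.node .leaf 5250 0 .leaf))))))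

def dTree69 : Tree := (.node (.node (.node (.node (.node (.node (.node .leaf 5280 1 .leaf) 5281 1 .leaf) 5282 2 (.node .leaf 5283 3 .leaf)) 5284 4 (.node (.node .leaf 5312 1 .leaf) 5313 1 (.node .leaf 5314 2 .leaf))) 5315 3 (.node (.node (.node (.node .leaf 5316 4 .leaf) 5317 6 .leaf) 5344 1 (.node .leaf 5345 1 .leaf)) 5346 2 (.node (.node .leaf 5347 3 .leaf) 5348 4 (.node .leaf 5349 6 .leaf)))) 5350 9 (.node (.node (.node (.node (.node .leaf 5376 1 .leaf) 5377 1 .leaf) 5378 2 (.node .leaf 5379 3 .leaf)) 5380 4 (.node (.node .leaf 5381 6 .leaf) 5382 9 (.node .leaf 5383 12 .leaf))) 5408 1 (.node (.node (.node (.node .leaf 5409 1 .leaf) 5410 2 .leaf) 5411 3 (.node .leaf 5412 4 .leaf)) 5413 6 (.node (.node .leaf 5414 9 .leaf) 5415 12 (.node .leaf 5416 18 .leaf))))) 5440 1 (.node (.node (.node (.node (.node (.node .leaf 5441 1 .leaf) 5442 2 .leaf) 5443 4 (.node .leaf 5444 6 .leaf)) 5445 9 (.node (.node .leaf 5446 12 .leaf) 5447 18 (.node .leaf 5448 27 .leaf))) 5449 36 (.node (.node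 (.node (.node .leaf 5472 1 .leaf) 5473 1 .leaf) 5474 2 (.node .leaf 5475 4 .leaf)) 5476 6 (.node (.node .leaf 5477 10 .leaf) 5478 16 (.node .leaf 5479 24 .leaf)))) 5480 33 (.node (.node (.node (.node (.node .leaf 5481 48 .leaf) 5482 54 .leaf) 6144 1 (.node .leaf 6176 0 .leaf)) 6208 0 (.node (.node .leaf 6209 0 .leaf) 6240 0 (.node .leaf 6241 0 .leaf))) 6242 0 (.node (.node (.node (.node .leaf 6272 0 .leaf) 6273 0 .leaf) 6274 0 (.node .leaf 6275 0 .leaf)) 6304 0 (.node (.node .leaf 6305 0 .leaf) 6306 0 (.node .leaf 6307 0 .leaf))))))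

def dTree70 : Tree := (.node (.node (.node (.node (.node (.node (.node .leaf 6336 1 .leaf) 6337 1 .leaf) 6338 2 (.node .leaf 6339 3 .leaf)) 6340 4 (.node (.node .leaf 6341 6 .leaf) 6368 1 (.node .leaf 6369 1 .leaf))) 6370 2 (.node (.node (.node (.node .leaf 6371 3 .leaf) 6372 4 .leaf) 6373 6 (.node .leaf 6374 9 .leaf)) 6400 1 (.node (.node .leaf 6401 1 .leaf) 6402 2 (.node .leaf 6403 3 .leaf)))) 6404 4 (.node (.node (.node (.node (.node .leaf 6405 6 .leaf) 6406 9 .leaf) 6407 12 (.node .leaf 6432 1 .leaf)) 6433 1 (.node (.node .leaf 6434 2 .leaf) 6435 3 (.node .leaf 6436 4 .leaf))) 6437 6 (.node (.node (.node (.node .leaf 6438 9 .leaf) 6439 12 .leaf) 6440 18 (.node .leaf 6464 1 .leaf)) 6465 1 (.node (.node .leaf 6466 2 .leaf) 6467 3 (.node .leaf 6468 4 .leaf))))) 6469 6 (.node (.node (.node (.node (.node (.node .leaf 6470 9 .leaf) 6471 12 .leaf) 6472 18 (.node .leaf 6473 27 .leaf)) 7168 1 (.node (.node .leaf 7200 0 .leaf) 7232 0 (.node .leaf 7233 0 .leaf))) 7264 0 (.node (.node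 (.node (.node .leaf 7265 0 .leaf) 7266 0 .leaf) 7296 0 (.node .leaf 7297 0 .leaf)) 7298 0 (.node (.node .leaf 7299 0 .leaf) 7328 0 (.node .leaf 7329 0 .leaf)))) 7330 0 (.node (.node (.node (.node (.node .leaf 7331 0 .leaf) 7332 0 .leaf) 7360 0 (.node .leaf 7361 0 .leaf)) 7362 0 (.node (.node .leaf 7363 0 .leaf) 7364 0 (.node .leaf 7365 0 .leaf))) 7392 1 (.node (.node (.node (.node .leaf 7393 1 .leaf) 7394 2 .leaf) 7395 3 (.node .leaf 7396 4 .leaf)) 7397 6 (.node (.node .leaf 7398 9 .leaf) 7424 1 (.node .leaf 7425 1 .leaf))))))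

def dTree71 : Tree := (.node (.node (.node (.node (.node (.node (.node .leaf 7427 3 .leaf) 7428 4 .leaf) 7429 6 (.node .leaf 7430 9 .leaf)) 7431 12 (.node (.node .leaf 7456 1 .leaf) 7457 1 (.node .leaf 7458 2 .leaf))) 7459 3 (.node (.node (.node (.node .leaf 7460 4 .leaf) 7461 6 .leaf) 7462 9 (.node .leaf 7463 12 .leaf)) 7464 18 (.node (.node .leaf 8192 1 .leaf) 8224 0 (.node .leaf 8256 0 .leaf)))) 8257 0 (.node (.node (.node (.node (.node .leaf 8288 0 .leaf) 8289 0 .leaf) 8290 0 (.node .leaf 8320 0 .leaf)) 8321 0 (.node (.node .leaf 8322 0 .leaf) 8323 0 (.node .leaf 8352 0 .leaf))) 8353 0 (.node (.node (.node (.node .leaf 8354 0 .leaf) 8355 0 .leaf) 8356 0 (.node .leaf 8384 0 .leaf)) 8385 0 (.node (.node .leaf 8386 0 .leaf) 8387 0 (.node .leaf 8388 0 .leaf))))) 8389 0 (.node (.node (.node (.node (.node (.node .leaf 8416 0 .leaf) 8417 0 .leaf) 8418 0 (.node .leaf 8419 0 .leaf)) 8420 0 (.node (.node .leaf 8421 0 .leaf) 8422 0 (.node .leaf 8448 1 .leaf))) 8449 1 (.node (.node (.node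 (.node .leaf 8450 2 .leaf) 8451 3 .leaf) 8452 4 (.node .leaf 8453 6 .leaf)) 8454 9 (.node (.node .leaf 8455 12 .leaf) 9216 1 (.node .leaf 9248 0 .leaf)))) 9280 0 (.node (.node (.node (.node (.node .leaf 9281 0 .leaf) 9312 0 .leaf) 9313 0 (.node .leaf 9314 0 .leaf)) 9344 0 (.node (.node .leaf 9345 0 .leaf) 9346 0 (.node .leaf 9347 0 .leaf))) 9376 0 (.node (.node (.node (.node .leaf 9377 0 .leaf) 9378 0 .leaf) 9379 0 (.node .leaf 9380 0 .leaf)) 9408 0 (.node (.node .leaf 9409 0 .leaf) 9410 0 (.node .leaf 9411 0 .leaf))))))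

def dTree72 : Tree := (.node (.node (.node (.node (.node (.node (.node .leaf 9413 0 .leaf) 9440 0 .leaf) 9441 0 (.node .leaf 9442 0 .leaf)) 9443 0 (.node (.node .leaf 9444 0 .leaf) 9445 0 (.node .leaf 9446 0 .leaf))) 10240 1 (.node (.node (.node (.node .leaf 10272 0 .leaf) 10304 0 .leaf) 10305 0 (.node .leaf 10336 0 .leaf)) 10337 0 (.node (.node .leaf 10338 0 .leaf) 10368 0 (.node .leaf 10369 0 .leaf)))) 10370 0 (.node (.node (.node (.node (.node .leaf 10371 0 .leaf) 10400 0 .leaf) 10401 0 (.node .leaf 10402 0 .leaf)) 10403 0 (.node (.node .leaf 10404 0 .leaf) 10432 0 (.node .leaf 10433 0 .leaf))) 10434 0 (.node (.node (.node (.node .leaf 10435 0 .leaf) 10436 0 .leaf) 10437 0 (.node .leaf 11264 1 .leaf)) 11296 0 (.node (.node .leaf 11328 0 .leaf) 11329 0 (.node .leaf 11360 0 .leaf))))) 11361 0 (.node (.node (.node (.node (.node (.node .leaf 11362 0 .leaf) 11392 0 .leaf) 11393 0 (.node .leaf 11394 0 .leaf)) 11395 0 (.node (.node .leaf 11424 0 .leaf) 11425 0 (.node .leaf 11426 0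 .leaf))) 11427 0 (.node (.node (.node (.node .leaf 11428 0 .leaf) 12288 1 .leaf) 12320 0 (.node .leaf 12352 0 .leaf)) 12353 0 (.node (.node .leaf 12384 0 .leaf) 12385 0 (.node .leaf 12386 0 .leaf)))) 12416 0 (.node (.node (.node (.node (.node .leaf 12417 0 .leaf) 12418 0 .leaf) 12419 0 (.node .leaf 13312 1 .leaf)) 13344 0 (.node (.node .leaf 13376 0 .leaf) 13377 0 (.node .leaf 13408 0 .leaf))) 13409 0 (.node (.node (.node (.node .leaf 13410 0 .leaf) 14336 1 .leaf) 14368 0 (.node .leaf 14400 0 .leaf)) 14401 0 (.node (.node .leaf 15360 1 .leaf) 15392 0 (.node .leaf 16384 1 .leaf))))))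

def dTree : Tree := (.node (.node (.node dTree65 2436 6 dTree66) 3360 1 (.node dTree67 4289 1 dTree68)) 5251 0 (.node (.node dTree69 6308 0 dTree70) 7426 2 (.node dTree71 9412 0 dTree72)))

def tCrude : List ℕ := [1, 2, 3, 5, 9, 15, 25, 43, 73, 123, 209, 355, 601, 1019, 1729, 2931, 4969, 8427, 14289, 24227, 41081, 69659, 118113, 200275, 339593, 575819, 976369, 1655555, 2807193, 4759931, 8071041, 13685427, 23205289, 39347371, 66718225, 113128803, 191823545, 325259995]

def dCrude : List ℕ := [1, 1, 2, 4, 6, 10, 18, 30, 50, 86, 146, 246, 418, 710, 1202, 2038, 3458, 5862, 9938, 16854, 28578, 48454, 82162, 139318, 236226, 400550, 679186, 1151638, 1952738, 3311110, 5614386, 9519862, 16142082, 27370854, 46410578, 78694742, 133436450, 226257606]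

def bTable : List ℕ := [1, 1, 2, 3, 5, 8, 15, 22, 44, 78, 140, 234, 408, 686, 1156, 1934, 3276, 6207, 11176, 19603]

def fTable : List (List ℕ) := [[0], [0, 1], [0, 2, 1], [0, 3, 2, 1], [0, 5, 4, 2, 1], [0, 8, 6, 4, 2, 1], [0, 15, 10, 8, 4, 2, 1], [0, 22, 16, 12, 8, 4, 2, 1], [0, 44, 30, 20, 16, 8, 4, 2, 1], [0, 78, 45, 32, 24, 16, 8, 4, 2, 1], [0, 140, 88, 60, 40, 32, 16, 8, 4, 2, 1], [0, 234, 156, 90, 64, 48, 32, 16, 8, 4, 2, 1], [0, 408, 280, 176, 120, 80, 64, 32, 16, 8, 4, 2, 1], [0, 686, 468, 312, 180, 128, 96, 64, 32, 16, 8, 4, 2, 1], [0, 1156, 816, 560, 352, 240, 160, 128, 64, 32, 16, 8, 4, 2, 1], [0, 1934, 1372, 936, 624, 360, 256, 192, 128, 64, 32, 16, 8, 4, 2, 1], [0, 3276, 2312, 1632, 1120, 704, 480, 320, 256, 128, 64, 32, 16, 8, 4, 2, 1], [0, 6207, 3868, 2744, 1872, 1248, 720, 512, 384, 256, 128, 64, 32, 16, 8, 4, 2, 1], [0, 11176, 6552, 4624, 3264, 2240, 1408, 960, 640, 512, 256, 128, 64, 32, 16, 8, 4, 2, 1]]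

end Cfsg.Agent.SqrtThree82
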