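import Cfsg.Agent.SqrtThree82.Chain
import Cfsg.Agent.SqrtThree82.Table

/-!
Three families of bounds for the recursion along cycles: a table, a crude table and a geometric bound.
-/

set_option autoImplicit false

namespace Cfsg.Agent.SqrtThree82

/-- bounds in natural numbers -/
structure PotN (N : ℕ) where
  T : Bool → ℕ → ℕ → ℕ → ℕ → ℕ
  D : ℕ → ℕ → ℕ → ℕ
  T_mono : ∀ u E R l m, 2 ≤ m → E + 1 ≤ R → R ≤ N → l + R ≤ N + 2 → T u E R l m ≤ T u (E + 1) R l m
  D_mono : ∀ E R m, 2 ≤ m → E + 1 < R → R ≤ N → D E R m ≤ D (E + 1) R m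
  D_zero : ∀ R m, 2 ≤ m → R ≤ N → (R = 0 ∨ m ≤ R) → 1 ≤ D 0 R m
  D_step : ∀ E R m r, 2 ≤ m → R ≤ N → m ≤ R → E < R → 1 ≤ r → r ≤ E →
    r * T (decide (E + 1 = R)) (E - r) (R - 2) 2 m ≤ D E R m
  T_skip : ∀ u E R l m, 2 ≤ m → E + 1 ≤ R → R ≤ N → l + R ≤ N + 2 →
    T u E (R - 1) (l + 1) m ≤ T u E R l m
  T_close : ∀ u E R l m, 2 ≤ m → m ≤ l → (E < R ∨ (R = 0 ∧ E = 0)) → R ≤ N → l + R ≤ N + 2 →
    D E R (mm u l m) ≤ T u E R l m
  T_step : ∀ u E R l m s, 2 ≤ m → max 1 s ≤ E → E ≤ R → R ≤ N → l + R ≤ N + 2 →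
    (if m ≤ l then D (E - max 1 s) R (mm u l m) else 0) +
      s * T u (E - max 1 s) (R - 1) (l + 1) m ≤ T u E R l m

/-- the same bounds as real numbers -/
noncomputable def PotN.toPot {N : ℕ} (B : PotN N) : Pot N where
  T u E R l m := B.T u E R l m
  D E R m := B.D E R m
  T_nonneg _ _ _ _ _ := Nat.cast_nonneg _
  D_nonneg _ _ _ := Nat.cast_nonneg _
  T_mono u E R l m h1 h2 h3 h4 := Nat.cast_le.2 (B.T_mono u E R l m h1 h2 h3 h4)
  D_mono E R m h1 h2 h3 := Nat.cast_le.2 (B.D_mono E R m h1 h2 h3)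
  D_zero R m h1 h2 h3 := by exact_mod_cast B.D_zero R m h1 h2 h3
  D_step E R m r h1 h2 h3 h4 h5 h6 := by exact_mod_cast B.D_step E R m r h1 h2 h3 h4 h5 h6
  T_skip u E R l m h1 h2 h3 h4 := Nat.cast_le.2 (B.T_skip u E R l m h1 h2 h3 h4)
  T_close u E R l m h1 h2 h3 h4 h5 := Nat.cast_le.2 (B.T_close u E R l m h1 h2 h3 h4 h5)
  T_step u E R l m s h1 h2 h3 h4 h5 := by
    have h := B.T_step u E R l m s h1 h2 h3 h4 h5
    split_ifs at h ⊢ <;> exact_mod_cast h

/-- crude bound for open states -/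
def tc (E : ℕ) : ℕ := tCrude.getD E 0

/-- crude bound for closed states -/
def dc (E : ℕ) : ℕ := dCrude.getD E 0

theorem crude_facts :
    dc 0 = 1 ∧ (∀ E < 37, tc E ≤ tc (E + 1) ∧ dc E ≤ dc (E + 1)) ∧
      (∀ E < 38, dc E ≤ tc E) ∧
      (∀ E < 38, ∀ r < 38, 1 ≤ r → r ≤ E → r * tc (E - r) ≤ dc E) ∧
      (∀ E < 38, ∀ s < 38, max 1 s ≤ E → dc (E - max 1 s) + s * tc (E - max 1 s) ≤ tc E) := by
  refine ⟨by decide +kernel, by decide +kernel, by decide +kernel, by decide +kernel, by decide +kernel⟩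

/-- the crude table -/
def crude : PotN 37 where
  T _ E _ _ _ := tc E
  D E _ _ := dc E
  T_mono _ E R _ _ _ h h' _ := (crude_facts.2.1 E (by omega)).1
  D_mono E R _ _ h h' := (crude_facts.2.1 E (by omega)).2
  D_zero _ _ _ _ _ := crude_facts.1.ge
  D_step E R _ r _ h _ h' h1 h2 := crude_facts.2.2.2.1 E (by omega) r (by omega) h1 h2
  T_skip _ _ _ _ _ _ _ _ _ := le_rfl
  T_close _ E R _ _ _ _ h h' _ := crude_facts.2.2.1 E (by omega)
  T_step _ E R _ _ s _ h h' h'' _ := by
    have := crude_facts.2.2.2.2 E (by omega) s (by omega) h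
    split_ifs <;> omega

/-- lookup -/
def Tree.get : Tree → ℕ → Option ℕ
  | .leaf, _ => none
  | .node l k v r, q => if q < k then l.get q else if k < q then r.get q else some v

/-- all entries satisfy a test -/
def Tree.all (p : ℕ → ℕ → Bool) : Tree → Bool
  | .leaf => true
  | .node l k v r => p k v && (l.all p && r.all p)

lemma Tree.get_all {p : ℕ → ℕ → Bool} : ∀ (t : Tree), t.all p = true → ∀ {q v : ℕ}, t.get q = some v →
    p q v = true
  | .leaf, _, _, _, h => by simp [Tree.get] at h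
  | .node l k w r, ha, q, v, h => by
      simp only [Tree.all, Bool.and_eq_true] at ha
      simp only [Tree.get] at h
      split_ifs at h with h1 h2
      · exact Tree.get_all l ha.2.1 h
      · exact Tree.get_all r ha.2.2 h
      · obtain rfl : q = k := by omega
        cases h
        exact ha.1

/-- key of an open state -/
def tKey (u : Bool) (E R l m : ℕ) : ℕ := u.toNat + 2 * (E + 32 * (R + 32 * (l + 32 * m)))

/-- the table for open states -/
def tv (u : Bool) (E R l m : ℕ) : ℕ :=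
  if E < 32 ∧ R < 32 ∧ l < 32 ∧ m < 32 then (tTree.get (tKey u E R l m)).getD (tc E) else tc E

/-- key of a closed state -/
def dKey (E R m : ℕ) : ℕ := E + 32 * (R + 32 * m)

/-- the table for closed states -/
def dv (E R m : ℕ) : ℕ :=
  if E < 32 ∧ R < 32 ∧ m < 32 then (dTree.get (dKey E R m)).getD (dc E) else dc E

/-- conditions at an open state -/
def tCond (u : Bool) (E R l m v : ℕ) : Prop :=
  v ≤ tc E ∧ (2 ≤ m → R ≤ 14 → l + R ≤ 16 →
    (1 ≤ E → E ≤ R → tv u (E - 1) R l m ≤ v) ∧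
    (E + 1 ≤ R → tv u E (R - 1) (l + 1) m ≤ v) ∧
    (m ≤ l → (E < R ∨ (R = 0 ∧ E = 0)) → dv E R (mm u l m) ≤ v) ∧
    (E ≤ R → ∀ s < E + 1, max 1 s ≤ E →
      (if m ≤ l then dv (E - max 1 s) R (mm u l m) else 0) +
        s * tv u (E - max 1 s) (R - 1) (l + 1) m ≤ v))

instance (u : Bool) (E R l m v : ℕ) : Decidable (tCond u E R l m v) := by
  unfold tCond; infer_instance

/-- conditions at a closed state -/
def dCond (E R m v : ℕ) : Prop :=
  v ≤ dc E ∧ (2 ≤ m → R ≤ 14 →
    (E = 0 → (R = 0 ∨ m ≤ R) → 1 ≤ v) ∧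
    (1 ≤ E → E < R → dv (E - 1) R m ≤ v) ∧
    (m ≤ R → E < R → ∀ r < E + 1, 1 ≤ r → r * tv (decide (E + 1 = R)) (E - r) (R - 2) 2 m ≤ v))

instance (E R m v : ℕ) : Decidable (dCond E R m v) := by
  unfold dCond; infer_instance

theorem tTree_ok : tTree.all (fun k v => decide
    (tCond (k % 2 == 1) (k / 2 % 32) (k / 64 % 32) (k / 2048 % 32) (k / 65536) v)) = true := by
  decide +kernel

theorem dTree_ok : dTree.all (fun k v => decide
    (dCond (k % 32) (k / 32 % 32) (k / 1024) v)) = true := by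
  decide +kernel

lemma tv_cases (u : Bool) (E R l m : ℕ) : tv u E R l m = tc E ∨ tCond u E R l m (tv u E R l m) := by
  unfold tv
  split_ifs with h
  · rcases hg : tTree.get (tKey u E R l m) with _ | v
    · exact Or.inl rfl
    · refine Or.inr ?_
      have := of_decide_eq_true (tTree.get_all tTree_ok hg)
      rwa [show (tKey u E R l m % 2 == 1) = u by
          cases u <;> simp [tKey, Bool.toNat] <;> omega,
        show tKey u E R l m / 2 % 32 = E by cases u <;> simp [tKey, Bool.toNat] <;> omega,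
        show tKey u E R l m / 64 % 32 = R by cases u <;> simp [tKey, Bool.toNat] <;> omega,
        show tKey u E R l m / 2048 % 32 = l by cases u <;> simp [tKey, Bool.toNat] <;> omega,
        show tKey u E R l m / 65536 = m by cases u <;> simp [tKey, Bool.toNat] <;> omega] at this
  · exact Or.inl rfl

lemma dv_cases (E R m : ℕ) : dv E R m = dc E ∨ dCond E R m (dv E R m) := by
  unfold dv
  split_ifs with h
  · rcases hg : dTree.get (dKey E R m) with _ | v
    · exact Or.inl rfl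
    · refine Or.inr ?_
      have := of_decide_eq_true (dTree.get_all dTree_ok hg)
      rwa [show dKey E R m % 32 = E by simp [dKey]; omega,
        show dKey E R m / 32 % 32 = R by simp [dKey]; omega,
        show dKey E R m / 1024 = m by simp [dKey]; omega] at this
  · exact Or.inl rfl

lemma tv_le (u : Bool) (E R l m : ℕ) : tv u E R l m ≤ tc E :=
  (tv_cases u E R l m).elim (fun h => h.le) (fun h => h.1)

lemma dv_le (E R m : ℕ) : dv E R m ≤ dc E :=
  (dv_cases E R m).elim (fun h => h.le) (fun h => h.1)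

/-- the table -/
def refined : PotN 14 where
  T := tv
  D := dv
  T_mono u E R l m hm h hN hl := by
    rcases tv_cases u (E + 1) R l m with h1 | h1
    · rw [h1]; exact (tv_le u E R l m).trans (crude_facts.2.1 E (by omega)).1
    · have := (h1.2 hm hN hl).1 (by omega) h
      simpa using this
  D_mono E R m hm h hN := by
    rcases dv_cases (E + 1) R m with h1 | h1
    · rw [h1]; exact (dv_le E R m).trans (crude_facts.2.1 E (by omega)).2
    · have := (h1.2 hm hN).2.1 (by omega) h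
      simpa using this
  D_zero R m hm hN h := by
    rcases dv_cases 0 R m with h1 | h1
    · rw [h1]; exact crude_facts.1.ge
    · exact (h1.2 hm hN).1 rfl h
  D_step E R m r hm hN hmR hE h1' h2 := by
    rcases dv_cases E R m with h1 | h1
    · rw [h1]
      exact (Nat.mul_le_mul_left r (tv_le _ _ _ _ _)).trans
        (crude_facts.2.2.2.1 E (by omega) r (by omega) h1' h2)
    · exact (h1.2 hm hN).2.2 hmR hE r (by omega) h1'
  T_skip u E R l m hm h hN hl := by
    rcases tv_cases u E R l m with h1 | h1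
    · rw [h1]; exact tv_le _ _ _ _ _
    · exact (h1.2 hm hN hl).2.1 h
  T_close u E R l m hm hml h hN hl := by
    rcases tv_cases u E R l m with h1 | h1
    · rw [h1]; exact (dv_le _ _ _).trans (crude_facts.2.2.1 E (by omega))
    · exact (h1.2 hm hN hl).2.2.1 hml h
  T_step u E R l m s hm hs hE hN hl := by
    rcases tv_cases u E R l m with h1 | h1
    · rw [h1]
      refine le_trans ?_ (crude_facts.2.2.2.2 E (by omega) s (by omega) hs)
      refine Nat.add_le_add ?_ (Nat.mul_le_mul_left s (tv_le _ _ _ _ _))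
      split_ifs
      · exact dv_le _ _ _
      · exact Nat.zero_le _
    · exact (h1.2 hm hN hl).2.2.2 hE s (by omega) hs

lemma geom_aux : ∀ r : ℕ, 1 ≤ r → (r : ℝ) * (10 / 7) ≤ (17 / 10) ^ r := by
  intro r hr
  induction r, hr using Nat.le_induction with
  | base => norm_num
  | succ k hk ih =>
    rcases Nat.lt_or_ge k 2 with h | h
    · obtain rfl : k = 1 := by omega
      norm_num
    · have hk2 : (2 : ℝ) ≤ k := by exact_mod_cast h
      push_cast
      rw [pow_succ]
      nlinarith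

lemma geom_step_aux : ∀ h : ℕ, 1 ≤ h → 1 + (h : ℝ) * (10 / 7) ≤ (10 / 7) * (17 / 10) ^ h := by
  intro r hr
  induction r, hr using Nat.le_induction with
  | base => norm_num
  | succ k hk ih =>
    have hk2 : (1 : ℝ) ≤ k := by exact_mod_cast hk
    push_cast
    rw [pow_succ]
    nlinarith

/-- the geometric bound -/
noncomputable def geom (N : ℕ) : Pot N where
  T _ E _ _ _ := 10 / 7 * (17 / 10 : ℝ) ^ E
  D E _ _ := (17 / 10 : ℝ) ^ E
  T_nonneg _ _ _ _ _ := by positivity
  D_nonneg _ _ _ := by positivity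
  T_mono _ E _ _ _ _ _ _ _ :=
    mul_le_mul_of_nonneg_left (pow_le_pow_right₀ (by norm_num) (Nat.le_succ E)) (by norm_num)
  D_mono E _ _ _ _ _ := pow_le_pow_right₀ (by norm_num) (Nat.le_succ E)
  D_zero _ _ _ _ _ := by norm_num
  D_step E _ _ r _ _ _ _ h1 h2 := by
    obtain ⟨j, rfl⟩ := Nat.exists_eq_add_of_le h2
    rw [Nat.add_sub_cancel_left, pow_add]
    have h3 : (0 : ℝ) ≤ (17 / 10) ^ j := by positivity
    calc (r : ℝ) * (10 / 7 * (17 / 10) ^ j) = ((r : ℝ) * (10 / 7)) * (17 / 10) ^ j := by ring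
      _ ≤ (17 / 10) ^ r * (17 / 10) ^ j := mul_le_mul_of_nonneg_right (geom_aux r h1) h3
  T_skip _ _ _ _ _ _ _ _ _ := le_rfl
  T_close _ E _ _ _ _ _ _ _ _ := le_mul_of_one_le_left (by positivity) (by norm_num)
  T_step _ E _ l m s _ h _ _ _ := by
    obtain ⟨j, rfl⟩ := Nat.exists_eq_add_of_le h
    rw [Nat.add_sub_cancel_left, pow_add]
    have h3 : (0 : ℝ) ≤ (17 / 10) ^ j := by positivity
    have h4 := geom_step_aux (max 1 s) (le_max_left _ _)
    have h5 : (s : ℝ) ≤ ((max 1 s : ℕ) : ℝ) := by exact_mod_cast le_max_right 1 s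
    split_ifs
    · calc (17 / 10 : ℝ) ^ j + (s : ℝ) * (10 / 7 * (17 / 10) ^ j)
          = (1 + (s : ℝ) * (10 / 7)) * (17 / 10) ^ j := by ring
        _ ≤ (10 / 7 * (17 / 10) ^ max 1 s) * (17 / 10) ^ j :=
            mul_le_mul_of_nonneg_right (le_trans (by linarith) h4) h3
        _ = 10 / 7 * ((17 / 10) ^ max 1 s * (17 / 10) ^ j) := by ring
    · calc 0 + (s : ℝ) * (10 / 7 * (17 / 10) ^ j)
          = ((s : ℝ) * (10 / 7)) * (17 / 10) ^ j := by ring
        _ ≤ (10 / 7 * (17 / 10) ^ max 1 s) * (17 / 10) ^ j :=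
            mul_le_mul_of_nonneg_right (le_trans (by linarith) h4) h3
        _ = 10 / 7 * ((17 / 10) ^ max 1 s * (17 / 10) ^ j) := by ring

end Cfsg.Agent.SqrtThree82
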