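import Cfsg.Agent.SqrtThree82.Product
import Cfsg.Agent.SqrtThree82.Potential

/-!
A permutation group of degree n, at least 3, has at most (√3) ^ (n - 1) conjugacy classes, given the
transitive groups of degree 4 to 7.
-/

set_option autoImplicit false

universe u

namespace Cfsg.Agent.SqrtThree82

open MulAction Cfsg.Agent.ClassBound

/-- table of class bounds -/
def bN (n : ℕ) : ℕ := bTable.getD n 0

/-- table of bounds with r orbits -/
def fN (m r : ℕ) : ℕ := (fTable.getD m []).getD r 0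

/-- the square root of 3 -/
noncomputable def s3 : ℝ := Real.sqrt 3

lemma s3_sq : s3 ^ 2 = 3 := Real.sq_sqrt (by norm_num)

lemma s3_pos : 0 < s3 := Real.sqrt_pos.2 (by norm_num)

lemma s3_ge : 1732 / 1000 ≤ s3 := by
  rw [s3, Real.le_sqrt (by norm_num) (by norm_num)]; norm_num

lemma s3_pow_sq (a : ℕ) : (s3 ^ a) ^ 2 = 3 ^ a := by
  rw [← pow_mul, mul_comm, pow_mul, s3_sq]

lemma le_of_sq_le {x y : ℝ} (hy : 0 ≤ y) (h : x ^ 2 ≤ y ^ 2) : x ≤ y :=
  le_of_abs_le (by rw [← abs_of_nonneg hy]; exact sq_le_sq.1 h)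

/-- the bound -/
noncomputable def bR (n : ℕ) : ℝ := if n < 20 then (bN n : ℝ) else s3 ^ (n - 1)

lemma bR_nonneg (n : ℕ) : 0 ≤ bR n := by
  unfold bR; split_ifs
  · exact Nat.cast_nonneg _
  · exact pow_nonneg s3_pos.le _

theorem bN_facts :
    (∀ a < 20, 9 * bN a ^ 2 ≤ 4 * 3 ^ a ∨ a = 0) ∧
    (∀ n < 20, 3 ≤ n → bN n ^ 2 ≤ 3 ^ (n - 1)) ∧
    (∀ a < 20, ∀ m < 20, 1 ≤ a → 1 ≤ m → a + m < 20 → bN a * bN m ≤ bN (a + m)) ∧
    (bN 1 = 1 ∧ bN 2 = 2 ∧ bN 3 = 3 ∧ bN 4 = 5 ∧ bN 5 = 8 ∧ bN 6 = 15 ∧ bN 7 = 22) := by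
  refine ⟨by decide +kernel, by decide +kernel, by decide +kernel, by decide +kernel⟩

theorem fN_facts :
    (∀ m < 19, 1 ≤ m → bN m ≤ fN m 1) ∧
    (∀ a < 19, ∀ m < 19, ∀ r < 19, (1 ≤ a ∧ 1 ≤ r ∧ r ≤ m ∧ a + m < 19) → bN a * fN m r ≤ fN (a + m) (r + 1)) ∧
    (∀ n < 17, 8 ≤ n → ∀ r < n, 1 ≤ r → fN (n - 1) r + r * refined.T true (n - 1 - r) (n - 2) 2 2 ≤ bN n) ∧
    (∀ n < 20, 17 ≤ n → ∀ r < n, 1 ≤ r → fN (n - 1) r + r * crude.T true (n - 1 - r) (n - 2) 2 2 ≤ bN n) := by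
  refine ⟨by decide +kernel, by decide +kernel, by decide +kernel, by decide +kernel⟩

theorem crude_large :
    (∀ n < 40, 20 ≤ n → tc (n - 2) * 1000 ^ (n - 1) ≤ 732 * 1732 ^ (n - 2)) ∧
    (∀ n < 40, 20 ≤ n → ∀ r < n, 2 ≤ r →
      r * tc (n - 1 - r) * 3 ^ r * 1000 ^ (n - 1) ≤ (3 ^ r - 2 ^ r) * 1732 ^ (n - 1)) := by
  refine ⟨by decide +kernel, by decide +kernel⟩

lemma bR_sq (n : ℕ) (hn : 3 ≤ n) : bR n ^ 2 ≤ 3 ^ (n - 1) := by
  unfold bR; split_ifs with h
  · exact_mod_cast bN_facts.2.1 n h hn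
  · rw [s3_pow_sq]

lemma bR_le (a : ℕ) (ha : 1 ≤ a) : bR a ≤ 2 / 3 * s3 ^ a := by
  refine le_of_sq_le (by have := s3_pos; positivity) ?_
  rw [mul_pow, s3_pow_sq]
  unfold bR; split_ifs with h
  · have h1 := (bN_facts.1 a h).resolve_right (by omega)
    have h2 : (9 : ℝ) * (bN a : ℝ) ^ 2 ≤ 4 * 3 ^ a := by exact_mod_cast h1
    linarith
  · obtain ⟨j, rfl⟩ : ∃ j, a = j + 1 := ⟨a - 1, by omega⟩
    have e : (3 : ℝ) ^ (j + 1) = 3 ^ j * 3 := pow_succ _ _
    rw [Nat.add_sub_cancel, s3_pow_sq, e]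
    have : (0 : ℝ) ≤ 3 ^ j := by positivity
    linarith

lemma bR_mul (a m : ℕ) (ha : 1 ≤ a) (hm : 1 ≤ m) : bR a * bR m ≤ bR (a + m) := by
  by_cases h : a + m < 20
  · unfold bR
    rw [if_pos (by omega), if_pos (by omega), if_pos h]
    exact_mod_cast bN_facts.2.2.1 a (by omega) m (by omega) ha hm h
  · have h1 := mul_le_mul (bR_le a ha) (bR_le m hm) (bR_nonneg m) (by have := s3_pos; positivity)
    refine h1.trans ?_
    obtain ⟨j, hj⟩ : ∃ j, a + m = j + 1 := ⟨a + m - 1, by omega⟩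
    rw [show (2 : ℝ) / 3 * s3 ^ a * (2 / 3 * s3 ^ m) = 4 / 9 * s3 ^ (a + m) by rw [pow_add]; ring]
    unfold bR
    rw [if_neg h, hj, Nat.add_sub_cancel, pow_succ]
    have h2 : 4 / 9 * s3 ≤ 1 := by
      have : s3 ≤ 9 / 4 := by rw [s3, Real.sqrt_le_left (by norm_num)]; norm_num
      linarith
    calc 4 / 9 * (s3 ^ j * s3) = (4 / 9 * s3) * s3 ^ j := by ring
      _ ≤ 1 * s3 ^ j := mul_le_mul_of_nonneg_right h2 (pow_nonneg s3_pos.le _)
      _ = _ := one_mul _

/-- groups with r orbits, general degree -/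
noncomputable def fR (m r : ℕ) : ℝ := if r ≤ 1 then bR m else s3 ^ m * (2 / 3) ^ r

lemma fR_step (a m r : ℕ) (ha : 1 ≤ a) (hr : 1 ≤ r) (hrm : r ≤ m) :
    bR a * fR m r ≤ fR (a + m) (r + 1) := by
  have h3 := s3_pos
  have hm : fR m r ≤ s3 ^ m * (2 / 3) ^ r := by
    unfold fR; split_ifs with h
    · obtain rfl : r = 1 := by omega
      have := bR_le m (by omega)
      linarith
    · exact le_rfl
  refine (mul_le_mul (bR_le a ha) hm ?_ (by positivity)).trans (le_of_eq ?_)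
  · unfold fR; split_ifs
    · exact bR_nonneg _
    · positivity
  · rw [show fR (a + m) (r + 1) = s3 ^ (a + m) * (2 / 3) ^ (r + 1) by unfold fR; rw [if_neg (by omega)]]
    ring

lemma geom_one (n : ℕ) (hn : 40 ≤ n) :
    10 / 7 * (17 / 10 : ℝ) ^ (n - 2) ≤ 732 / 1000 * (1732 / 1000) ^ (n - 2) := by
  obtain ⟨j, rfl⟩ := Nat.exists_eq_add_of_le hn
  rw [show 40 + j - 2 = j + 38 by omega]
  induction j with
  | zero => norm_num
  | succ j ih =>
    have e : ∀ x : ℝ, x ^ (j + 1 + 38) = x ^ (j + 38) * x := fun x => by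
      rw [← pow_succ]
    rw [e, e]
    have h0 : (0 : ℝ) ≤ (17 / 10) ^ (j + 38) := by positivity
    have h1 := ih (by omega)
    nlinarith

lemma geom_two_aux : ∀ r : ℕ, 2 ≤ r → (r : ℝ) * (289 / 100) ≤ 2 * (17 / 10) ^ r := by
  intro r hr
  induction r, hr using Nat.le_induction with
  | base => norm_num
  | succ k hk ih =>
    have hk2 : (2 : ℝ) ≤ k := by exact_mod_cast hk
    push_cast
    rw [pow_succ]
    nlinarith

lemma geom_two (n r : ℕ) (hn : 40 ≤ n) (hr : 2 ≤ r) (hrn : r < n) :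
    (r : ℝ) * (10 / 7 * (17 / 10 : ℝ) ^ (n - 1 - r)) ≤ (1 - (2 / 3) ^ r) * (1732 / 1000) ^ (n - 1) := by
  have hbase : ∀ j : ℕ, 2000 / 2023 * (17 / 10 : ℝ) ^ (j + 39) ≤ 5 / 9 * (1732 / 1000) ^ (j + 39) := by
    intro j
    induction j with
    | zero => norm_num
    | succ j ih =>
      have e : ∀ x : ℝ, x ^ (j + 1 + 39) = x ^ (j + 39) * x := fun x => by
        rw [← pow_succ]
      rw [e, e]
      have h0 : (0 : ℝ) ≤ (17 / 10) ^ (j + 39) := by positivity
      nlinarith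
  obtain ⟨j, hj⟩ : ∃ j, n - 1 = j + 39 := ⟨n - 40, by omega⟩
  have h2 : (2 / 3 : ℝ) ^ r ≤ 4 / 9 := by
    calc (2 / 3 : ℝ) ^ r ≤ (2 / 3) ^ 2 := pow_le_pow_of_le_one (by norm_num) (by norm_num) hr
      _ = 4 / 9 := by norm_num
  have h4 := geom_two_aux r hr
  have hw : (0 : ℝ) ≤ (1732 / 1000) ^ (n - 1) := by positivity
  have hq : (0 : ℝ) ≤ (17 / 10) ^ (n - 1 - r) := by positivity
  have hsplit : (17 / 10 : ℝ) ^ (n - 1) = (17 / 10) ^ (n - 1 - r) * (17 / 10) ^ r := by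
    rw [← pow_add]; congr 1; omega
  have h5 := hbase j
  rw [← hj, hsplit] at h5
  have h6 : (r : ℝ) * (10 / 7 * (17 / 10 : ℝ) ^ (n - 1 - r)) ≤
      2000 / 2023 * ((17 / 10) ^ (n - 1 - r) * (17 / 10) ^ r) := by
    nlinarith
  calc _ ≤ 5 / 9 * (1732 / 1000 : ℝ) ^ (n - 1) := h6.trans h5
    _ ≤ _ := mul_le_mul_of_nonneg_right (by linarith) hw

lemma large_one (n : ℕ) (hn : 20 ≤ n) :
    ∃ (N : ℕ) (B : Pot N), n ≤ N + 2 ∧ bR (n - 1) + B.T true (n - 2) (n - 2) 2 2 ≤ bR n ∧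
      ∀ r, 2 ≤ r → r < n → fR (n - 1) r + (r : ℝ) * B.T true (n - 1 - r) (n - 2) 2 2 ≤ bR n := by
  have h3 := s3_pos
  have hb : bR n = s3 ^ (n - 1) := by unfold bR; rw [if_neg (by omega)]
  have hb1 : bR (n - 1) ≤ s3 ^ (n - 2) := by
    unfold bR
    split_ifs with h
    · obtain rfl : n = 20 := by omega
      refine le_of_sq_le (by positivity) ?_
      rw [s3_pow_sq]
      exact_mod_cast bN_facts.2.1 19 (by omega) (by omega)
    · rw [show n - 1 - 1 = n - 2 by omega]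
  have hw1 : ∀ k : ℕ, (1732 / 1000 : ℝ) ^ k ≤ s3 ^ k := fun k => pow_le_pow_left₀ (by norm_num) s3_ge k
  have key : ∀ T1 : ℝ, T1 ≤ 732 / 1000 * (1732 / 1000) ^ (n - 2) → bR (n - 1) + T1 ≤ bR n := by
    intro T1 hT
    have h1 := hw1 (n - 2)
    have h2 : 0 ≤ s3 ^ (n - 2) := by positivity
    have h4 : (1732 / 1000 : ℝ) * s3 ^ (n - 2) ≤ s3 ^ (n - 1) := by
      rw [show n - 1 = n - 2 + 1 by omega, pow_succ, mul_comm (s3 ^ (n - 2))]
      exact mul_le_mul_of_nonneg_right s3_ge h2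
    rw [hb]
    nlinarith
  have key2 : ∀ (r : ℕ) (T2 : ℝ), 2 ≤ r → T2 ≤ (1 - (2 / 3) ^ r) * (1732 / 1000) ^ (n - 1) →
      fR (n - 1) r + T2 ≤ bR n := by
    intro r T2 hr hT
    have h1 : (2 / 3 : ℝ) ^ r ≤ 1 := pow_le_one₀ (by norm_num) (by norm_num)
    have h2 := mul_le_mul_of_nonneg_left (hw1 (n - 1)) (sub_nonneg.2 h1)
    rw [hb, show fR (n - 1) r = s3 ^ (n - 1) * (2 / 3) ^ r by unfold fR; rw [if_neg (by omega)]]
    nlinarith
  by_cases h40 : n < 40
  · refine ⟨37, crude.toPot, by omega, key _ ?_, fun r hr hrn => key2 r _ hr ?_⟩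
    · show (tc (n - 2) : ℝ) ≤ _
      have h := crude_large.1 n h40 hn
      have h' : (tc (n - 2) : ℝ) * 1000 ^ (n - 1) ≤ 732 * 1732 ^ (n - 2) := by exact_mod_cast h
      rw [show n - 1 = n - 2 + 1 by omega, pow_succ] at h'
      rw [div_pow, div_mul_div_comm, le_div_iff₀ (by positivity)]
      linarith
    · show (r : ℝ) * (tc (n - 1 - r) : ℝ) ≤ _
      have h := crude_large.2 n h40 hn r hrn hr
      have hle : 2 ^ r ≤ 3 ^ r := Nat.pow_le_pow_left (by norm_num) r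
      have h' : ((r * tc (n - 1 - r) * 3 ^ r * 1000 ^ (n - 1) : ℕ) : ℝ) ≤
          (((3 ^ r - 2 ^ r) * 1732 ^ (n - 1) : ℕ) : ℝ) := Nat.cast_le.2 h
      push_cast [hle] at h'
      rw [show (1 : ℝ) - (2 / 3) ^ r = (3 ^ r - 2 ^ r) / 3 ^ r by
        rw [div_pow, sub_div, div_self (by positivity)], div_pow, div_mul_div_comm,
        le_div_iff₀ (by positivity)]
      linarith
  · refine ⟨n, geom n, by omega, key _ (geom_one n (by omega)), fun r hr hrn => key2 r _ hr ?_⟩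
    exact geom_two n r (by omega) hr hrn

lemma card_classes_le_card (G : Type*) [Group G] [Finite G] : Nat.card (ConjClasses G) ≤ Nat.card G :=
  Nat.card_le_card_of_surjective _ ConjClasses.mk_surjective

lemma perm_three : Nat.card (ConjClasses (Equiv.Perm (Fin 3))) ≤ 3 := by
  have h := card_comm_eq_card_conjClasses_mul_card (Equiv.Perm (Fin 3))
  have h1 : Nat.card {p : Equiv.Perm (Fin 3) × Equiv.Perm (Fin 3) // Commute p.1 p.2} = 18 := by
    have e : Nat.card {p : Equiv.Perm (Fin 3) × Equiv.Perm (Fin 3) // p.1 * p.2 = p.2 * p.1} = 18 := by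
      rw [Nat.card_eq_fintype_card]
      decide +kernel
    exact e
  rw [h1, Nat.card_perm, Nat.card_fin, show Nat.factorial 3 = 6 from rfl] at h
  omega

lemma small_le {X : Type u} [Finite X] (H : Subgroup (Equiv.Perm X)) (h3 : Nat.card X ≤ 3)
    (h1 : 1 ≤ Nat.card X) : Nat.card (ConjClasses H) ≤ Nat.card X := by
  have hH : Nat.card H ∣ (Nat.card X).factorial := by
    rw [← Nat.card_perm]; exact Subgroup.card_subgroup_dvd_card H
  have hle := card_classes_le_card H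
  by_cases hsmall : Nat.card H ≤ Nat.card X
  · exact hle.trans hsmall
  have hb : Nat.card H ≤ (Nat.card X).factorial := Nat.le_of_dvd (Nat.factorial_pos _) hH
  have hX : Nat.card X = 3 ∧ Nat.card H = 6 := by
    rcases (show Nat.card X = 1 ∨ Nat.card X = 2 ∨ Nat.card X = 3 by omega) with h | h | h <;>
      simp [h, Nat.factorial] at hH hb hsmall ⊢
    · omega
    · omega
    · interval_cases (Nat.card H) <;> simp_all
  obtain rfl : H = ⊤ := Subgroup.eq_top_of_card_eq H (by rw [Nat.card_perm, hX.1, hX.2]; rfl)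
  obtain ⟨e⟩ : Nonempty (X ≃ Fin 3) := ⟨(Finite.equivFin X).trans (finCongr hX.1)⟩
  rw [card_classes_congr (Subgroup.topEquiv.trans e.permCongrHom), hX.1]
  exact perm_three

/-- transitive groups of degree 4 to 7 -/
def Base : Prop :=
  ∀ n, 4 ≤ n → n ≤ 7 → ∀ H : Subgroup (Equiv.Perm (Fin n)), MulAction.IsPretransitive H (Fin n) →
    Nat.card (ConjClasses H) ≤ bN n

lemma base_le (hbase : Base) {X : Type u} [Finite X] (H : Subgroup (Equiv.Perm X)) (c : X)
    (htr : ∀ a, ∃ h ∈ H, h c = a) (h4 : 4 ≤ Nat.card X) (h7 : Nat.card X ≤ 7) :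
    Nat.card (ConjClasses H) ≤ bN (Nat.card X) := by
  let e : X ≃ Fin (Nat.card X) := Finite.equivFin X
  let φ : Equiv.Perm X ≃* Equiv.Perm (Fin (Nat.card X)) := e.permCongrHom
  have hH' : MulAction.IsPretransitive (H.map φ.toMonoidHom) (Fin (Nat.card X)) := by
    refine ⟨fun a b => ?_⟩
    obtain ⟨h, hh, hha⟩ := htr (e.symm a)
    obtain ⟨k, hk, hkb⟩ := htr (e.symm b)
    refine ⟨⟨φ (k * h⁻¹), _, H.mul_mem hk (H.inv_mem hh), rfl⟩, ?_⟩
    show φ (k * h⁻¹) a = b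
    simp [φ, ← hha, hkb]
  rw [card_classes_congr (Subgroup.equivMapOfInjective H φ.toMonoidHom φ.injective)]
  exact hbase _ h4 h7 _ hH'

theorem card_le (hbase : Base) : ∀ (n : ℕ) (X : Type u) [Finite X] (H : Subgroup (Equiv.Perm X)),
    Nat.card X = n → 1 ≤ n → (Nat.card (ConjClasses H) : ℝ) ≤ bR n := by
  intro n
  induction n using Nat.strong_induction_on with
  | _ n ih =>
  intro X _ H hX hn
  have hb : ∀ (Y : Type u) [Finite Y] (Q : Subgroup (Equiv.Perm Y)), 1 ≤ Nat.card Y → Nat.card Y ≤ n - 1 →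
      (Nat.card (ConjClasses Q) : ℝ) ≤ bR (Nat.card Y) := fun Y _ Q h1 h2 => ih _ (by omega) Y Q rfl h1
  by_cases h3 : n ≤ 3
  · refine le_trans (Nat.cast_le.2 (small_le H (by omega) (by omega))) ?_
    rw [hX]; unfold bR; rw [if_pos (by omega)]
    rcases (show n = 1 ∨ n = 2 ∨ n = 3 by omega) with rfl | rfl | rfl <;> simp [bN_facts.2.2.2]
  haveI : Nonempty X := (Nat.card_pos_iff.1 (by omega)).1
  let c : X := Classical.arbitrary X
  by_cases htr : ∀ a, ∃ h ∈ H, h c = a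
  swap
  · push Not at htr
    obtain ⟨a, ha⟩ := htr
    obtain ⟨QA, QB, -, hle⟩ := split_le H (orbitSet H c)
    have hs := card_split (orbitSet H c)
    have hA : 1 ≤ Nat.card (orbitSet H c) :=
      Nat.card_pos_iff.2 ⟨⟨⟨c, mem_orbit_self c⟩⟩, inferInstance⟩
    have hB : 1 ≤ Nat.card (compl' (orbitSet H c)) :=
      Nat.card_pos_iff.2 ⟨⟨⟨a, fun ⟨⟨k, hk⟩, hkc⟩ => ha k hk hkc⟩⟩, inferInstance⟩
    calc (Nat.card (ConjClasses H) : ℝ)
        ≤ (Nat.card (ConjClasses QA) : ℝ) * Nat.card (ConjClasses QB) := by exact_mod_cast hle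
      _ ≤ bR (Nat.card (orbitSet H c)) * bR (Nat.card (compl' (orbitSet H c))) :=
          mul_le_mul (hb _ QA hA (by omega)) (hb _ QB hB (by omega)) (Nat.cast_nonneg _) (bR_nonneg _)
      _ ≤ bR (Nat.card (orbitSet H c) + Nat.card (compl' (orbitSet H c))) := bR_mul _ _ hA hB
      _ = bR n := by rw [hs, hX]
  by_cases h7 : n ≤ 7
  · refine le_trans (Nat.cast_le.2 (base_le hbase H c htr (by omega) (by omega))) ?_
    rw [hX]; unfold bR; rw [if_pos (by omega)]
  -- the point stabiliser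
  have hM : ∀ m ∈ stab H c, m c = c := fun m hm => hm.2
  obtain ⟨Y, _, Q, hY, hQ, hle⟩ := fixed_point_le (stab H c) c hM
  have horb := orbs_le (stab H c)
  have h2o : 2 ≤ orbs (stab H c) := by
    obtain ⟨a, ha⟩ : ∃ a, a ≠ c := by
      haveI : Nontrivial X := Finite.one_lt_card_iff_nontrivial.1 (by omega)
      exact exists_ne c
    obtain ⟨h, hh, hha⟩ := htr a
    have h1 := orbs_stab_lt H c ⟨h, hh, hha.symm ▸ ha⟩
    have h0 : 1 ≤ orbs H := Nat.card_pos_iff.2 ⟨⟨Quotient.mk'' c⟩, inferInstance⟩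
    omega
  set r := orbs (stab H c) - 1 with hr
  have hrk : rk (stab H c) = n - 1 - r := by unfold rk; omega
  have hMle : (Nat.card (ConjClasses (stab H c)) : ℝ) ≤ Nat.card (ConjClasses Q) := by exact_mod_cast hle
  by_cases h20 : n < 20
  · have hfQ : (Nat.card (ConjClasses Q) : ℝ) ≤ (fN (n - 1) r : ℕ) := by
      refine prod_bound (n - 1) (fun a => if a < 20 then (bN a : ℝ) else 0) (fun m s => ((fN m s : ℕ) : ℝ))
        ?_ ?_ ?_ ?_ (n - 1) Y Q r (by omega) le_rfl (by omega) (by omega)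
      · intro a; split_ifs <;> simp
      · intro m h1 h2
        rw [if_pos (by omega)]
        exact_mod_cast fN_facts.1 m (by omega) h1
      · intro a m s ha hs hsm ham
        rw [if_pos (by omega)]
        exact_mod_cast fN_facts.2.1 a (by omega) m (by omega) s (by omega) ⟨ha, hs, hsm, by omega⟩
      · intro Z _ P h1 h2
        have := hb Z P h1 h2
        unfold bR at this
        rw [if_pos (by omega)] at this ⊢
        exact this
    have key : ∀ {N : ℕ} (B : PotN N), n ≤ N + 2 →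
        fN (n - 1) r + r * B.T true (n - 1 - r) (n - 2) 2 2 ≤ bN n →
        (Nat.card (ConjClasses H) : ℝ) ≤ bR n := by
      intro N B hN hle'
      refine (card_classes_le B.toPot H c htr (by omega) (by omega)).trans ?_
      rw [← hr, hrk, hX]
      unfold bR; rw [if_pos h20]
      have h' : (fN (n - 1) r : ℝ) + (r : ℝ) * (B.T true (n - 1 - r) (n - 2) 2 2 : ℕ) ≤ bN n := by
        exact_mod_cast hle'
      exact le_trans (add_le_add (hMle.trans hfQ) le_rfl) h'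
    rcases Nat.lt_or_ge n 17 with h17 | h17
    · exact key refined (by omega) (fN_facts.2.2.1 n h17 (by omega) r (by omega) (by omega))
    · exact key crude (by omega) (fN_facts.2.2.2 n h20 h17 r (by omega) (by omega))
  obtain ⟨N, B, hN, hone, htwo⟩ := large_one n (by omega)
  refine (card_classes_le B H c htr (by omega) (by omega)).trans ?_
  rw [← hr, hrk, hX]
  rcases Nat.lt_or_ge r 2 with h1 | h1
  · have rfl' : r = 1 := by omega
    rw [rfl', Nat.cast_one, one_mul, show n - 1 - 1 = n - 2 by omega]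
    refine le_trans (add_le_add (hMle.trans ?_) le_rfl) hone
    rw [show n - 1 = Nat.card Y by omega]
    exact hb Y Q (by omega) (by omega)
  · refine le_trans (add_le_add (hMle.trans ?_) le_rfl) (htwo r h1 (by omega))
    refine prod_bound (n - 1) bR fR bR_nonneg ?_ (fun a m s ha hs hsm _ => fR_step a m s ha hs hsm) hb
      (n - 1) Y Q r (by omega) le_rfl (by omega) (by omega)
    intro m _ _
    unfold fR; rw [if_pos le_rfl]

theorem card_classes_sq (hbase : Base) {X : Type u} [Finite X] (H : Subgroup (Equiv.Perm X))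
    (h3 : 3 ≤ Nat.card X) : Nat.card (ConjClasses H) ^ 2 ≤ 3 ^ (Nat.card X - 1) := by
  have h := card_le hbase _ X H rfl (by omega)
  have h2 := pow_le_pow_left₀ (Nat.cast_nonneg _) h 2
  exact_mod_cast h2.trans (bR_sq _ h3)

end Cfsg.Agent.SqrtThree82
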