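import Cfsg.Agent.SqrtThree82.Step

/-!
Counting conjugacy classes of permutations along cycles: the induction.
-/

set_option autoImplicit false

namespace Cfsg.Agent.SqrtThree82

open MulAction Cfsg.Agent.ClassBound

variable {α : Type*} [Finite α]

/-- the length bound passed on when a cycle closes -/
def mm (u : Bool) (l m : ℕ) : ℕ := if u then l else m

/-- bounds for open (T) and closed (D) states with at most N free points -/
structure Pot (N : ℕ) where
  T : Bool → ℕ → ℕ → ℕ → ℕ → ℝ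
  D : ℕ → ℕ → ℕ → ℝ
  T_nonneg : ∀ u E R l m, 0 ≤ T u E R l m
  D_nonneg : ∀ E R m, 0 ≤ D E R m
  T_mono : ∀ u E R l m, 2 ≤ m → E + 1 ≤ R → R ≤ N → l + R ≤ N + 2 → T u E R l m ≤ T u (E + 1) R l m
  D_mono : ∀ E R m, 2 ≤ m → E + 1 < R → R ≤ N → D E R m ≤ D (E + 1) R m
  D_zero : ∀ R m, 2 ≤ m → R ≤ N → (R = 0 ∨ m ≤ R) → 1 ≤ D 0 R m
  D_step : ∀ E R m r, 2 ≤ m → R ≤ N → m ≤ R → E < R → 1 ≤ r → r ≤ E →
    (r : ℝ) * T (decide (E + 1 = R)) (E - r) (R - 2) 2 m ≤ D E R m
  T_skip : ∀ u E R l m, 2 ≤ m → E + 1 ≤ R → R ≤ N → l + R ≤ N + 2 →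
    T u E (R - 1) (l + 1) m ≤ T u E R l m
  T_close : ∀ u E R l m, 2 ≤ m → m ≤ l → (E < R ∨ (R = 0 ∧ E = 0)) → R ≤ N → l + R ≤ N + 2 →
    D E R (mm u l m) ≤ T u E R l m
  T_step : ∀ u E R l m s, 2 ≤ m → max 1 s ≤ E → E ≤ R → R ≤ N → l + R ≤ N + 2 →
    (if m ≤ l then D (E - max 1 s) R (mm u l m) else 0) +
      (s : ℝ) * T u (E - max 1 s) (R - 1) (l + 1) m ≤ T u E R l m

/-- number of points minus number of orbits -/
noncomputable def rk (H : Subgroup (Equiv.Perm α)) : ℕ := Nat.card α - orbs H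

lemma orbs_le (H : Subgroup (Equiv.Perm α)) : orbs H ≤ Nat.card α :=
  Nat.card_le_card_of_surjective (fun x => Quotient.mk'' x) Quotient.mk''_surjective

lemma orbs_ge_of_fix (H : Subgroup (Equiv.Perm α)) (S : Set α) (hS : ∀ h ∈ H, ∀ z ∈ S, h z = z)
    (hne : S.ncard < Nat.card α) : S.ncard + 1 ≤ orbs H := by
  classical
  obtain ⟨c, hc⟩ : ∃ c, c ∉ S := by
    by_contra h
    push Not at h
    rw [Set.eq_univ_of_forall h, Set.ncard_univ] at hne
    exact lt_irrefl _ hne
  have := Nat.card_le_card_of_injective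
    (Sum.elim (fun z : S => (Quotient.mk'' (z : α) : orbitRel.Quotient H α))
      (fun _ : Unit => Quotient.mk'' c)) (by
      rintro (⟨a, ha⟩ | _) (⟨b, hb⟩ | _) h
      · obtain ⟨⟨k, hk⟩, hkb⟩ := Quotient.eq''.1 h
        have : k b = a := hkb
        rw [hS k hk b hb] at this
        simp [this]
      · obtain ⟨⟨k, hk⟩, hkb⟩ := Quotient.eq''.1 h
        have : k c = a := hkb
        refine absurd ?_ hc
        have h2 : k c = k a := by rw [this, hS k hk a ha]
        rw [k.injective h2]; exact ha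
      · obtain ⟨⟨k, hk⟩, hkb⟩ := Quotient.eq''.1 h
        have : k b = c := hkb
        rw [hS k hk b hb] at this
        exact absurd (this ▸ hb) hc
      · rfl)
  rw [Nat.card_sum, Nat.card_unique (α := Unit), Nat.card_coe_set_eq] at this
  exact this

lemma eq_one_of_fix {H : Subgroup (Equiv.Perm α)} {S : Set α} (hS : ∀ h ∈ H, ∀ z ∈ S, h z = z)
    (hu : ∀ z, z ∈ S) {h : Equiv.Perm α} (hh : h ∈ H) : h = 1 :=
  Equiv.ext fun z => hS h hh z (hu z)

lemma per_le {F : Set α} {x : Equiv.Perm α} (hxF : ∀ z, x z ∈ F ↔ z ∈ F) {z : α} (hz : z ∉ F) :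
    per x z + F.ncard ≤ Nat.card α := by
  classical
  have hit : ∀ i : ℕ, (⇑x)^[i] z ∉ F := by
    intro i
    induction i with
    | zero => exact hz
    | succ i ih => rw [Function.iterate_succ_apply', hxF]; exact ih
  have hinj : Set.InjOn (fun i => (⇑x)^[i] z) (Set.Iio (per x z)) := Function.iterate_injOn_Iio_minimalPeriod
  have h1 := Nat.card_le_card_of_injective
    (Sum.elim (fun i : Fin (per x z) => (⇑x)^[(i : ℕ)] z) (fun y : F => (y : α))) (by
      rintro (i | y) (j | w) h
      · exact congrArg Sum.inl (Fin.ext (hinj i.2 j.2 h))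
      · exact absurd (by rw [show (⇑x)^[(i : ℕ)] z = w from h]; exact w.2) (hit i)
      · exact absurd (by rw [← show (y : α) = (⇑x)^[(j : ℕ)] z from h]; exact y.2) (hit j)
      · exact congrArg Sum.inr (Subtype.ext h))
  rw [Nat.card_sum, Nat.card_fin, Nat.card_coe_set_eq] at h1
  exact h1

/-- the property of the elements counted in an open state -/
def PT (F : Set α) (u : Bool) (m : ℕ) (c0 : α) (x : Equiv.Perm α) : Prop :=
  Good F m x ∧ (u = true → ∀ z, z ∉ F → per x c0 ≤ per x z)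

lemma pt_conj {F : Set α} {u : Bool} {m : ℕ} {c0 : α} {x k : Equiv.Perm α}
    (hk : ∀ z ∈ F, k z = z) (hkc : k c0 = c0) (hx : PT F u m c0 x) :
    PT F u m c0 (k * x * k⁻¹) := by
  refine ⟨good_conj hk hx.1, fun hu z hz => ?_⟩
  have h1 : per (k * x * k⁻¹) z = per x (k⁻¹ z) := by
    conv_lhs => rw [show z = k (k⁻¹ z) from (Equiv.apply_symm_apply k z).symm]
    exact per_conj k x _
  have h2 : per (k * x * k⁻¹) c0 = per x c0 := by
    conv_lhs => rw [← hkc]
    exact per_conj k x _
  rw [h1, h2]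
  refine hx.2 hu _ fun h => hz ?_
  have := hk _ h
  rw [Equiv.Perm.coe_inv, Equiv.apply_symm_apply] at this
  rw [this]; exact h

/-- an open state: the cycle through c0 is known up to c -/
structure St (H : Subgroup (Equiv.Perm α)) (g : Equiv.Perm α) (Z F : Set α) (c c0 : α) (l R : ℕ) :
    Prop where
  hR : Z.ncard + 1 + R = Nat.card α
  hfix : ∀ h ∈ H, ∀ z ∈ Z, h z = z
  hcZ : c ∉ Z
  hFZ : F ⊆ Z
  hgF : ∀ z, g z ∈ F ↔ z ∈ F
  hl : 1 ≤ l
  hend : (g ^ (l - 1)) c0 = c
  hpath : ∀ i, i + 1 < l → (g ^ i) c0 ∈ Z ∧ (g ^ i) c0 ∉ F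
  hinj : ∀ i j, i < l → j < l → (g ^ i) c0 = (g ^ j) c0 → i = j
  hcover : ∀ z ∈ Z, z ∈ F ∨ ∃ i, i + 1 < l ∧ (g ^ i) c0 = z
  hstab : ∀ k ∈ stab H c, g⁻¹ * k * g ∈ H

namespace St

variable {H : Subgroup (Equiv.Perm α)} {g : Equiv.Perm α} {Z F : Set α} {c c0 : α} {l R : ℕ}

lemma c0_notMem (S : St H g Z F c c0 l R) : c0 ∉ F := by
  intro h
  rcases Nat.lt_or_ge 1 l with hl | hl
  · exact (S.hpath 0 (by omega)).2 (by simpa using h)
  · have := S.hend
    rw [show l - 1 = 0 by omega, pow_zero] at this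
    exact S.hcZ (S.hFZ (this ▸ h))

lemma mem_or (S : St H g Z F c c0 l R) {i : ℕ} (hi : i < l) : (g ^ i) c0 ∈ insert c Z := by
  rcases Nat.lt_or_ge (i + 1) l with h | h
  · exact Set.mem_insert_of_mem _ (S.hpath i h).1
  · rw [show i = l - 1 by omega, S.hend]; exact Set.mem_insert _ _

lemma rk_le (S : St H g Z F c c0 l R) : rk H ≤ R := by
  have h := orbs_ge_of_fix H Z S.hfix (by have := S.hR; omega)
  have := S.hR
  unfold rk
  omega

/-- data shared by all elements of the coset -/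
lemma agree (S : St H g Z F c c0 l R) {x : Equiv.Perm α} (hx : x ∈ coset H g) :
    (∀ z ∈ Z, x z = g z) ∧ (∀ z, x z ∈ F ↔ z ∈ F) ∧ (∀ i, i < l → (x ^ i) c0 = (g ^ i) c0) := by
  have h1 : ∀ z ∈ Z, x z = g z := fun z hz => coset_apply hx fun h hh => S.hfix h hh z hz
  refine ⟨h1, fun z => ⟨fun hz => ?_, fun hz => ?_⟩, fun i => ?_⟩
  · have hw : g⁻¹ (x z) ∈ F := (S.hgF _).1 (by simpa using hz)
    have h2 := h1 _ (S.hFZ hw)
    have : x (g⁻¹ (x z)) = x z := by rw [h2]; simp
    rw [← x.injective this]; exact hw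
  · rw [h1 z (S.hFZ hz)]; exact (S.hgF z).2 hz
  · induction i with
    | zero => intro _; rfl
    | succ i ih =>
      intro hi
      rw [pow_succ', pow_succ', Equiv.Perm.mul_apply, Equiv.Perm.mul_apply, ih (by omega)]
      exact h1 _ (S.hpath i hi).1

lemma stab_fix (S : St H g Z F c c0 l R) {k : Equiv.Perm α} (hk : k ∈ stab H c) :
    ∀ z ∈ insert c Z, k z = z := by
  rintro z (rfl | hz)
  · exact hk.2
  · exact S.hfix k hk.1 z hz

lemma stab_c0 (S : St H g Z F c c0 l R) {k : Equiv.Perm α} (hk : k ∈ stab H c) : k c0 = c0 := by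
  refine S.stab_fix hk c0 ?_
  simpa using S.mem_or (show 0 < l from S.hl)

/-- the next point of an open cycle is new -/
lemma next_notMem (S : St H g Z F c c0 l R) {x : Equiv.Perm α} (hx : x ∈ coset H g) {d : α}
    (hxc : x c = d) (hd : d ≠ c0) : d ∉ insert c Z := by
  obtain ⟨h1, h2, h3⟩ := S.agree hx
  have key : ∀ j, j < l → d ≠ (g ^ j) c0 := by
    intro j hj he
    rcases j with _ | j
    · exact hd (by simpa using he)
    have h4 : x ((g ^ j) c0) = d := by
      rw [h1 _ (S.hpath j hj).1, he, pow_succ', Equiv.Perm.mul_apply]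
    have h5 : (g ^ j) c0 = (g ^ (l - 1)) c0 := by
      rw [S.hend]; exact x.injective (h4.trans hxc.symm)
    have := S.hinj j (l - 1) (by omega) (by omega) h5
    omega
  rintro (h | hz)
  · exact key (l - 1) (by have := S.hl; omega) (h.trans S.hend.symm)
  · rcases S.hcover d hz with hF | ⟨i, hi, he⟩
    · exact S.hcZ (S.hFZ ((h2 c).1 (hxc ▸ hF)))
    · exact key i (by omega) he.symm

/-- the state after one move -/
lemma child (S : St H g Z F c c0 l R) {x : Equiv.Perm α} (hx : x ∈ coset H g) {d : α}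
    (hxc : x c = d) (hd : d ≠ c0) (hs : ∀ k ∈ stab (stab H c) d, x⁻¹ * k * x ∈ stab H c) :
    1 ≤ R ∧ St (stab H c) x (insert c Z) F d c0 (l + 1) (R - 1) := by
  obtain ⟨h1, h2, h3⟩ := S.agree hx
  have hdn := S.next_notMem hx hxc hd
  have hR := S.hR
  have hcard : (insert c Z).ncard = Z.ncard + 1 := Set.ncard_insert_of_notMem S.hcZ (Set.toFinite _)
  have hlt : (insert c Z).ncard < Nat.card α := by
    rw [← Set.ncard_univ]
    exact Set.ncard_lt_ncard ((Set.ssubset_univ_iff).2 fun h => hdn (h ▸ Set.mem_univ d))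
      (Set.toFinite _)
  have hpow : ∀ i, i < l → (x ^ i) c0 = (g ^ i) c0 := h3
  have hlast : (x ^ (l - 1)) c0 = c := by rw [hpow _ (by have := S.hl; omega), S.hend]
  have hxl : (x ^ l) c0 = d := by
    rw [show l = l - 1 + 1 by have := S.hl; omega, pow_succ', Equiv.Perm.mul_apply, hlast, hxc]
  refine ⟨by omega, ?_⟩
  refine ⟨by omega, fun k hk => S.stab_fix hk, hdn, fun z hz => Set.mem_insert_of_mem _ (S.hFZ hz), h2,
    by omega, by simpa using hxl, ?_, ?_, ?_, hs⟩
  · intro i hi
    rw [hpow i (by omega)]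
    refine ⟨S.mem_or (by omega), ?_⟩
    rcases Nat.lt_or_ge (i + 1) l with h | h
    · exact (S.hpath i h).2
    · rw [show i = l - 1 by omega, S.hend]; exact fun hc => S.hcZ (S.hFZ hc)
  · have hne : ∀ i, i < l → (x ^ i) c0 ≠ d := fun i hi he => hdn (by
      rw [← he, hpow i hi]; exact S.mem_or hi)
    intro i j hi hj he
    rcases Nat.lt_or_ge i l with hil | hil <;> rcases Nat.lt_or_ge j l with hjl | hjl
    · rw [hpow i hil, hpow j hjl] at he; exact S.hinj i j hil hjl he
    · rw [show j = l by omega, hxl] at he; exact absurd he (hne i hil)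
    · rw [show i = l by omega, hxl] at he; exact absurd he.symm (hne j hjl)
    · omega
  · rintro z (rfl | hz)
    · exact Or.inr ⟨l - 1, by have := S.hl; omega, hlast⟩
    · rcases S.hcover z hz with h | ⟨i, hi, he⟩
      · exact Or.inl h
      · exact Or.inr ⟨i, by omega, by rw [hpow i (by omega)]; exact he⟩

/-- when H fixes c0's predecessor u, it can be put at the start of the cycle -/
lemma prepend (S : St H g Z F c c0 l R) {u : α} (hgu : g u = c0) (hu : ∀ h ∈ H, h u = u)
    (huc : u ≠ c) : 1 ≤ R ∧ St H g (insert u Z) F c u (l + 1) (R - 1) := by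
  have huZ : u ∉ Z := by
    intro hz
    rcases S.hcover u hz with hF | ⟨i, hi, he⟩
    · exact S.c0_notMem (hgu ▸ (S.hgF u).2 hF)
    · have h0 : (g ^ (i + 1)) c0 = (g ^ 0) c0 := by
        rw [pow_succ', Equiv.Perm.mul_apply, he, hgu, pow_zero]; rfl
      have := S.hinj (i + 1) 0 hi (by omega) h0
      omega
  have hR := S.hR
  have hcard : (insert u Z).ncard = Z.ncard + 1 := Set.ncard_insert_of_notMem huZ (Set.toFinite _)
  have hc' : c ∉ insert u Z := by
    rintro (h | h)
    · exact huc h.symm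
    · exact S.hcZ h
  have hlt : (insert u Z).ncard < Nat.card α := by
    rw [← Set.ncard_univ]
    exact Set.ncard_lt_ncard ((Set.ssubset_univ_iff).2 fun h => hc' (h ▸ Set.mem_univ c))
      (Set.toFinite _)
  have hs : ∀ i, (g ^ (i + 1)) u = (g ^ i) c0 := fun i => by
    rw [pow_succ, Equiv.Perm.mul_apply, hgu]
  refine ⟨by omega, ?_⟩
  refine ⟨by omega, ?_, hc', fun z hz => Set.mem_insert_of_mem _ (S.hFZ hz), S.hgF, by omega, ?_, ?_,
    ?_, ?_, S.hstab⟩
  · rintro h hh z (rfl | hz)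
    · exact hu h hh
    · exact S.hfix h hh z hz
  · rw [show l + 1 - 1 = l - 1 + 1 by have := S.hl; omega, hs, S.hend]
  · rintro (_ | i) hi
    · exact ⟨Set.mem_insert _ _, fun h => huZ (S.hFZ h)⟩
    · rw [hs]
      exact ⟨Set.mem_insert_of_mem _ (S.hpath i (by omega)).1, (S.hpath i (by omega)).2⟩
  · have hne : ∀ i, i < l → (g ^ i) c0 ≠ u := fun i hi he => by
      rcases S.mem_or hi with h | h
      · exact huc (he.symm.trans h)
      · exact huZ (he ▸ h)
    rintro (_ | i) (_ | j) hi hj he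
    · rfl
    · rw [hs] at he; exact absurd he.symm (hne j (by omega))
    · rw [hs] at he; exact absurd he (hne i (by omega))
    · rw [hs, hs] at he
      rw [S.hinj i j (by omega) (by omega) he]
  · rintro z (rfl | hz)
    · exact Or.inr ⟨0, by have := S.hl; omega, rfl⟩
    · rcases S.hcover z hz with h | ⟨i, hi, he⟩
      · exact Or.inl h
      · exact Or.inr ⟨i + 1, by omega, by rw [hs]; exact he⟩

end St

variable {N : ℕ} (B : Pot N)

lemma T_mono' {u : Bool} {E E' R l m : ℕ} (hm : 2 ≤ m) (hE : E ≤ E') (hR : E' ≤ R) (hN : R ≤ N)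
    (hl : l + R ≤ N + 2) : B.T u E R l m ≤ B.T u E' R l m := by
  induction E', hE using Nat.le_induction with
  | base => exact le_refl _
  | succ k _ ih => exact (ih (by omega)).trans (B.T_mono u k R l m hm hR hN hl)

lemma D_mono' {E E' R m : ℕ} (hm : 2 ≤ m) (hE : E ≤ E') (hR : E' < R) (hN : R ≤ N) :
    B.D E R m ≤ B.D E' R m := by
  induction E', hE using Nat.le_induction with
  | base => exact le_refl _
  | succ k _ ih => exact (ih (by omega)).trans (B.D_mono k R m hm hR hN)

/-- the bound at closed states with R free points -/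
def DBound (α : Type*) [Finite α] {N : ℕ} (B : Pot N) (R : ℕ) : Prop :=
  ∀ (M : Subgroup (Equiv.Perm α)) (g : Equiv.Perm α) (F : Set α) (m : ℕ), 2 ≤ m →
    (∀ k ∈ M, g⁻¹ * k * g ∈ M) → (∀ k ∈ M, ∀ z ∈ F, k z = z) → (∀ z, g z ∈ F ↔ z ∈ F) →
    F.ncard + R = Nat.card α →
    (((cl M) '' {x ∈ coset M g | Good F m x}).ncard : ℝ) ≤ B.D (rk M) R m

/-- the bound at open states with R free points -/
def TBound (α : Type*) [Finite α] {N : ℕ} (B : Pot N) (R : ℕ) : Prop :=
  ∀ (H : Subgroup (Equiv.Perm α)) (g : Equiv.Perm α) (Z F : Set α) (c c0 : α) (l m : ℕ) (u : Bool),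
    2 ≤ m → St H g Z F c c0 l R → l + R ≤ N + 2 →
    (((cl (stab H c)) '' {x ∈ coset H g | PT F u m c0 x}).ncard : ℝ) ≤ B.T u (rk H) R l m

/-- one step from an open state in which H moves c and the predecessor of c0 -/
theorem open_step {H : Subgroup (Equiv.Perm α)} {g : Equiv.Perm α} {Z F : Set α} {c c0 : α} {l R : ℕ}
    (S : St H g Z F c c0 l R) (m : ℕ) (u : Bool) (hm : 2 ≤ m) (hK : ∃ h ∈ H, h (g⁻¹ c0) ≠ g⁻¹ c0)
    (fD : ℝ) (hD0 : 0 ≤ fD)
    (hclose : ∀ x0, x0 ∈ coset H g → x0 c = c0 →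
      (((cl (stab H c)) '' {x ∈ coset (stab H c) x0 | PT F u m c0 x}).ncard : ℝ) ≤ fD)
    (hT : 1 ≤ R → TBound α B (R - 1)) (hl : l + R ≤ N + 2) :
    ∃ s : ℕ, s + orbs H ≤ orbs (stab H c) ∧ s < orbs (stab H c) ∧
      (((cl (stab H c)) '' {x ∈ coset H g | PT F u m c0 x}).ncard : ℝ) ≤
        fD + s * B.T u (rk (stab H c)) (R - 1) (l + 1) m := by
  refine step H g c c0 S.hstab (fun k hk => S.stab_c0 hk) hK (PT F u m c0)
    (fun k hk x hx => pt_conj (fun z hz => S.stab_fix hk z (Set.mem_insert_of_mem _ (S.hFZ hz)))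
      (S.stab_c0 hk) hx) _ fD hD0 hclose ?_
  intro x0 d hx0 hxc hd hs
  obtain ⟨h1R, S'⟩ := S.child hx0 hxc hd hs
  exact hT h1R _ x0 _ F d c0 (l + 1) m u hm S' (by omega)

/-- closing the cycle -/
theorem close_case {H : Subgroup (Equiv.Perm α)} {g : Equiv.Perm α} {Z F : Set α} {c c0 : α} {l R : ℕ}
    (S : St H g Z F c c0 l R) (m : ℕ) (u : Bool) (hm : 2 ≤ m) (hD : DBound α B R)
    {x0 : Equiv.Perm α} (hx0 : x0 ∈ coset H g) (hxc : x0 c = c0) :
    (((cl (stab H c)) '' {x ∈ coset (stab H c) x0 | PT F u m c0 x}).ncard : ℝ) ≤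
      if m ≤ l then B.D (rk (stab H c)) R (mm u l m) else 0 := by
  obtain ⟨h1, h2, h3⟩ := S.agree hx0
  have hsub : ∀ x, x ∈ coset (stab H c) x0 → x ∈ coset H g ∧ x c = c0 := by
    intro x hx
    refine ⟨?_, ?_⟩
    · show g⁻¹ * x ∈ H
      rw [show g⁻¹ * x = (g⁻¹ * x0) * (x0⁻¹ * x) by group]
      exact H.mul_mem hx0 hx.1
    · rw [coset_apply hx fun h hh => hh.2, hxc]
  have hl := S.hl
  have hper : ∀ x, x ∈ coset (stab H c) x0 → per x c0 = l := by
    intro x hx
    obtain ⟨hxg, hxc'⟩ := hsub x hx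
    obtain ⟨-, -, h3'⟩ := S.agree hxg
    have hxl : (x ^ l) c0 = c0 := by
      rw [show l = l - 1 + 1 by omega, pow_succ', Equiv.Perm.mul_apply, h3' _ (by omega), S.hend, hxc']
    have hple : per x c0 ≤ l :=
      Function.IsPeriodicPt.minimalPeriod_le (by omega) ((periodic_iff x c0 l).2 hxl)
    by_contra hne
    have hlt : per x c0 < l := by omega
    have h4 : (x ^ per x c0) c0 = c0 :=
      (periodic_iff x c0 _).1 (Function.isPeriodicPt_minimalPeriod _ _)
    rw [h3' _ hlt] at h4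
    have := S.hinj (per x c0) 0 hlt (by omega) (by simpa using h4)
    have := per_pos x c0
    omega
  split_ifs with hml
  · have hcard : (insert c Z).ncard + R = Nat.card α := by
      rw [Set.ncard_insert_of_notMem S.hcZ (Set.toFinite _)]; exact S.hR
    have hnorm : ∀ k ∈ stab H c, x0⁻¹ * k * x0 ∈ stab H c := by
      intro k hk
      refine ⟨?_, ?_⟩
      · rw [show x0⁻¹ * k * x0 = (g⁻¹ * x0)⁻¹ * (g⁻¹ * k * g) * (g⁻¹ * x0) by group]
        exact H.mul_mem (H.mul_mem (H.inv_mem hx0) (S.hstab k hk)) hx0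
      · show (x0⁻¹ * k * x0) c = c
        rw [Equiv.Perm.mul_apply, Equiv.Perm.mul_apply, hxc, S.stab_c0 hk, ← hxc]
        simp
    have hst : ∀ z, x0 z ∈ insert c Z ↔ z ∈ insert c Z := by
      have hfw : ∀ z, z ∈ insert c Z → x0 z ∈ insert c Z := by
        rintro z (rfl | hz)
        · rw [hxc]; simpa using S.mem_or (show 0 < l from hl)
        · rw [h1 z hz]
          rcases S.hcover z hz with hF | ⟨i, hi, he⟩
          · exact Set.mem_insert_of_mem _ (S.hFZ ((S.hgF z).2 hF))
          · rw [← he, ← Equiv.Perm.mul_apply, ← pow_succ']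
            exact S.mem_or hi
      intro z
      refine ⟨fun hz => ?_, hfw z⟩
      have him : x0 '' insert c Z = insert c Z := Set.eq_of_subset_of_ncard_le
        (by rintro _ ⟨w, hw, rfl⟩; exact hfw w hw)
        (by rw [Set.ncard_image_of_injective _ x0.injective]) (Set.toFinite _)
      rw [← him] at hz
      obtain ⟨w, hw, he⟩ := hz
      rw [← x0.injective he]; exact hw
    have hm' : 2 ≤ mm u l m := by unfold mm; split_ifs <;> omega
    refine le_trans ?_ (hD (stab H c) x0 (insert c Z) (mm u l m) hm' hnorm (fun k hk => S.stab_fix hk)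
      hst hcard)
    refine Nat.cast_le.2 (Set.ncard_le_ncard (Set.image_mono ?_) (Set.toFinite _))
    rintro x ⟨hx, hPT⟩
    refine ⟨hx, fun z hz => ?_⟩
    have hzF : z ∉ F := fun h => hz (Set.mem_insert_of_mem _ (S.hFZ h))
    unfold mm
    split_ifs with hu
    · rw [← hper x hx]; exact hPT.2 hu z hzF
    · exact hPT.1 z hzF
  · have : {x ∈ coset (stab H c) x0 | PT F u m c0 x} = ∅ := by
      refine Set.eq_empty_iff_forall_notMem.2 ?_
      rintro x ⟨hx, hPT⟩
      have := hPT.1 c0 S.c0_notMem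
      rw [hper x hx] at this
      exact hml this
    rw [this, Set.image_empty, Set.ncard_empty, Nat.cast_zero]

/-- the first move of a new cycle at b -/
lemma first_state {M : Subgroup (Equiv.Perm α)} {g : Equiv.Perm α} {F : Set α} {b : α} {R : ℕ}
    (hnorm : ∀ k ∈ M, g⁻¹ * k * g ∈ M) (hfix : ∀ k ∈ M, ∀ z ∈ F, k z = z)
    (hgF : ∀ z, g z ∈ F ↔ z ∈ F) (hb : b ∉ F) (hR : F.ncard + 1 + R = Nat.card α) :
    St M g F F b b 1 R :=
  ⟨hR, hfix, hb, subset_rfl, hgF, le_rfl, rfl, fun i hi => absurd hi (by omega),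
    fun i j hi hj _ => by omega, fun z hz => Or.inl hz, fun k hk => hnorm k hk.1⟩

theorem dbound (R : ℕ) (hRN : R ≤ N) (hT : 2 ≤ R → TBound α B (R - 2)) : DBound α B R := by
  classical
  intro M g F m hm hnorm hfix hgF hcard
  rcases Set.eq_empty_or_nonempty {x ∈ coset M g | Good F m x} with he | ⟨x1, hx1, hgood⟩
  · rw [he, Set.image_empty, Set.ncard_empty, Nat.cast_zero]; exact B.D_nonneg _ _ _
  have hx1F : ∀ z, x1 z ∈ F ↔ z ∈ F := fun z => by
    have hxz : ∀ w ∈ F, x1 w = g w := fun w hw => coset_apply hx1 fun h hh => hfix h hh w hw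
    refine ⟨fun hz => ?_, fun hz => ?_⟩
    · have hw : g⁻¹ (x1 z) ∈ F := (hgF _).1 (by simpa using hz)
      have : x1 (g⁻¹ (x1 z)) = x1 z := by rw [hxz _ hw]; simp
      rw [← x1.injective this]; exact hw
    · rw [hxz z hz]; exact (hgF z).2 hz
  have hmR : R = 0 ∨ m ≤ R := by
    rcases Nat.eq_zero_or_pos R with h | h
    · exact Or.inl h
    obtain ⟨z, hz⟩ : ∃ z, z ∉ F := by
      by_contra hh
      push Not at hh
      rw [Set.eq_univ_of_forall hh, Set.ncard_univ] at hcard
      omega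
    have := per_le hx1F hz
    have := hgood z hz
    omega
  by_cases hM : ∀ k ∈ M, k = 1
  · have hone : ((cl M) '' {x ∈ coset M g | Good F m x}).ncard ≤ 1 := by
      refine (Set.ncard_image_le (Set.toFinite _)).trans ((Set.ncard_le_one (Set.toFinite _)).2 ?_)
      rintro a ⟨ha, -⟩ b ⟨hb, -⟩
      exact (inv_mul_eq_one.1 (hM _ ha)).symm.trans (inv_mul_eq_one.1 (hM _ hb))
    have hE : rk M = 0 := by
      have : Nat.card α ≤ orbs M := Nat.card_le_card_of_injective
        (fun a => (Quotient.mk'' a : orbitRel.Quotient M α)) (fun a b h => by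
          obtain ⟨⟨k, hk⟩, hkb⟩ := Quotient.eq''.1 h
          have hkb' : k b = a := hkb
          rw [hM k hk] at hkb'
          exact hkb'.symm)
      unfold rk; omega
    rw [hE]
    exact le_trans (le_trans (Nat.cast_le.2 hone) (by norm_num)) (B.D_zero R m hm hRN hmR)
  push Not at hM
  obtain ⟨k0, hk0, hk1⟩ := hM
  obtain ⟨b, hb⟩ : ∃ b, k0 b ≠ b := by
    by_contra hh
    push Not at hh
    exact hk1 (Equiv.ext hh)
  have hbF : b ∉ F := fun h => hb (hfix k0 hk0 b h)
  have hR1 : 1 ≤ R := by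
    by_contra h
    have : F = Set.univ := Set.eq_of_subset_of_ncard_le (Set.subset_univ _)
      (by rw [Set.ncard_univ]; omega) (Set.toFinite _)
    exact hbF (this ▸ Set.mem_univ b)
  have hmR' : m ≤ R := by omega
  have hER : rk M < R := by
    have := orbs_ge_of_fix M F hfix (by omega)
    unfold rk; omega
  have hmoved : ∀ k ∈ M, k b ∉ F := fun k hk h => hbF (by
    have h2 := hfix _ (M.inv_mem hk) _ h
    rw [← Equiv.Perm.mul_apply, inv_mul_cancel, Equiv.Perm.one_apply] at h2
    rw [h2]; exact h)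
  set u : Bool := decide (rk M + 1 = R) with hu
  -- replace each element by one whose shortest cycle meeting the orbit of b passes b
  have hsub : (cl M) '' {x ∈ coset M g | Good F m x} ⊆
      (fun W : Set (Equiv.Perm α) => {y | ∃ z ∈ W, y ∈ cl M z}) ''
        ((cl (stab M b)) '' {x ∈ coset M g | PT F u m b x}) := by
    rintro _ ⟨x, ⟨hx, hgx⟩, rfl⟩
    haveI : Fintype M := Fintype.ofFinite M
    obtain ⟨⟨k, hk⟩, -, hmin⟩ := Finset.exists_min_image (Finset.univ : Finset M)
      (fun k => per x ((k : Equiv.Perm α) b)) ⟨1, Finset.mem_univ _⟩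
    let x' := k⁻¹ * x * k
    have hx' : x' ∈ coset M g := by
      show g⁻¹ * (k⁻¹ * x * k) ∈ M
      rw [show g⁻¹ * (k⁻¹ * x * k) = (g⁻¹ * k⁻¹ * g) * (g⁻¹ * x) * k by group]
      exact M.mul_mem (M.mul_mem (hnorm _ (M.inv_mem hk)) hx) hk
    have hper : ∀ z, per x' z = per x (k z) := fun z => by
      have h := per_conj k x' z
      rw [show k * x' * k⁻¹ = x by simp only [x']; group] at h
      exact h.symm
    have hgood' : Good F m x' := by
      have := good_conj (k := k⁻¹) (fun z hz => hfix _ (M.inv_mem hk) z hz) hgx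
      rwa [inv_inv] at this
    have hPT : PT F u m b x' := by
      refine ⟨hgood', fun hut z hz => ?_⟩
      have hE : rk M + 1 = R := by simpa [hu] using hut
      obtain ⟨⟨k', hk'⟩, hkz⟩ : ∃ k' : M, (k' : Equiv.Perm α) b = z := by
        by_contra hne
        have := Nat.card_le_card_of_injective
          (Sum.elim (fun w : F => (Quotient.mk'' (w : α) : orbitRel.Quotient M α))
            (fun e : Bool => if e then Quotient.mk'' b else Quotient.mk'' z)) (by
            have hw : ∀ (w : α), w ∈ F → ∀ y, y ∉ F →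
                (Quotient.mk'' w : orbitRel.Quotient M α) ≠ Quotient.mk'' y := by
              intro w hw y hy h
              obtain ⟨⟨j, hj⟩, hjy⟩ := Quotient.eq''.1 h
              have hjy' : j y = w := hjy
              have h2 : j y = j w := hjy'.trans (hfix j hj w hw).symm
              exact hy (j.injective h2 ▸ hw)
            have hbz : (Quotient.mk'' b : orbitRel.Quotient M α) ≠ Quotient.mk'' z := by
              intro h
              obtain ⟨j, hj⟩ := Quotient.eq''.1 h
              refine hne ⟨j⁻¹, ?_⟩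
              have hj' : (j : Equiv.Perm α) z = b := hj
              rw [← hj']
              simp
            rintro (⟨a, ha⟩ | a) (⟨a', ha'⟩ | a') h
            · obtain ⟨⟨j, hj⟩, hja⟩ := Quotient.eq''.1 h
              have hja' : j a' = a := hja
              rw [hfix j hj a' ha'] at hja'
              simp [hja']
            · cases a' <;> exact absurd h (hw a ha _ (by assumption))
            · cases a <;> exact absurd h.symm (hw a' ha' _ (by assumption))
            · cases a <;> cases a' <;> first | rfl | exact absurd h hbz | exact absurd h.symm hbz)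
        rw [Nat.card_sum, Nat.card_coe_set_eq, Nat.card_eq_fintype_card, Fintype.card_bool] at this
        have h4 : F.ncard + 2 ≤ orbs M := this
        have := orbs_le M
        unfold rk at hE
        omega
      rw [hper, hper, ← hkz]
      exact hmin ⟨k * k', M.mul_mem hk hk'⟩ (Finset.mem_univ _)
    refine ⟨cl (stab M b) x', ⟨x', ⟨hx', hPT⟩, rfl⟩, ?_⟩
    have hcm := cl_eq M x (M.inv_mem hk)
    rw [inv_inv] at hcm
    ext y
    constructor
    · rintro ⟨z, ⟨j, hj, rfl⟩, hy⟩
      rwa [cl_eq M x' hj.1, hcm] at hy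
    · intro hy
      refine ⟨x', ⟨1, Subgroup.one_mem _, by group⟩, ?_⟩
      show y ∈ cl M (k⁻¹ * x * k)
      rwa [hcm]
  have S : St M g F F b b 1 (R - 1) := first_state hnorm hfix hgF hbF (by omega)
  have hK : ∃ h ∈ M, h (g⁻¹ b) ≠ g⁻¹ b := by
    refine ⟨g⁻¹ * k0 * g, hnorm k0 hk0, fun h => hb ?_⟩
    have h' : g⁻¹ (k0 (g (g⁻¹ b))) = g⁻¹ b := h
    simpa using h'
  have hempty : ∀ x0, x0 ∈ coset M g → x0 b = b →
      (((cl (stab M b)) '' {x ∈ coset (stab M b) x0 | PT F u m b x}).ncard : ℝ) ≤ 0 := by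
    intro x0 _ hb0
    have : {x ∈ coset (stab M b) x0 | PT F u m b x} = ∅ := by
      refine Set.eq_empty_iff_forall_notMem.2 ?_
      rintro x ⟨hx, hPT⟩
      have hxb : x b = b := by rw [coset_apply hx fun h hh => hh.2, hb0]
      have h1 : per x b ≤ 1 := Function.IsPeriodicPt.minimalPeriod_le one_pos
        ((periodic_iff x b 1).2 (by simpa using hxb))
      have := hPT.1 b hbF
      omega
    rw [this, Set.image_empty, Set.ncard_empty, Nat.cast_zero]
  obtain ⟨s, hs1, hs2, hs3⟩ := open_step B S m u hm hK 0 le_rfl hempty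
    (fun h => by rw [show R - 1 - 1 = R - 2 by omega]; exact hT (by omega)) (by omega)
  refine le_trans (le_trans (Nat.cast_le.2 ((Set.ncard_le_ncard hsub (Set.toFinite _)).trans
    (Set.ncard_image_le (Set.toFinite _)))) hs3) ?_
  rw [zero_add]
  rcases Nat.eq_zero_or_pos s with h0 | h0
  · rw [h0, Nat.cast_zero, zero_mul]; exact B.D_nonneg _ _ _
  have hn := orbs_le (stab M b)
  have hE' : rk (stab M b) ≤ rk M - s := by unfold rk; omega
  have hsE : s ≤ rk M := by unfold rk; omega
  refine le_trans (mul_le_mul_of_nonneg_left ?_ (Nat.cast_nonneg s))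
    (B.D_step (rk M) R m s hm hRN hmR' hER h0 hsE)
  rw [show R - 1 - 1 = R - 2 by omega, show (1 : ℕ) + 1 = 2 from rfl, ← hu]
  exact T_mono' B hm hE' (by omega) (by omega) (by omega)

/-- at an open state in which H fixes the endpoint c -/
theorem tbound (R : ℕ) (hRN : R ≤ N) (hD : DBound α B R) (hT : 1 ≤ R → TBound α B (R - 1)) :
    TBound α B R := by
  classical
  intro H g Z F c c0 l m u hm S hl
  have hER := S.rk_le
  have hl1 := S.hl
  by_cases hHc : ∀ h ∈ H, h c = c
  · have hst : stab H c = H := le_antisymm (stab_le H c) (fun h hh => ⟨hh, hHc h hh⟩)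
    have hgg : g ∈ coset H g := by show g⁻¹ * g ∈ H; simp
    by_cases hd : g c = c0
    · have h := close_case B S m u hm hD hgg hd
      rw [hst] at h ⊢
      refine h.trans ?_
      split_ifs with hml
      · refine B.T_close u (rk H) R l m hm hml ?_ hRN hl
        rcases Nat.eq_zero_or_pos R with h0 | h0
        · exact Or.inr ⟨h0, by omega⟩
        · refine Or.inl ?_
          have h1 := orbs_ge_of_fix H (insert c Z) (by
            rintro k hk z (rfl | hz)
            · exact hHc k hk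
            · exact S.hfix k hk z hz) (by
              rw [Set.ncard_insert_of_notMem S.hcZ (Set.toFinite _)]; have := S.hR; omega)
          rw [Set.ncard_insert_of_notMem S.hcZ (Set.toFinite _)] at h1
          have := S.hR
          unfold rk; omega
      · exact B.T_nonneg _ _ _ _ _
    · obtain ⟨h1R, S'⟩ := S.child hgg rfl hd (fun k hk => by
        rw [hst] at hk ⊢
        exact S.hstab k (by rw [hst]; exact hk.1))
      rw [hst] at S' ⊢
      have hE' := S'.rk_le
      refine le_trans ?_ (le_trans (hT h1R H g _ F (g c) c0 (l + 1) m u hm S' (by omega))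
        (B.T_skip u (rk H) R l m hm (by omega) hRN hl))
      refine Nat.cast_le.2 ?_
      -- orbits of a subgroup are finer
      refine le_trans (Set.ncard_le_ncard ?_ (Set.toFinite _)) (Set.ncard_image_le (Set.toFinite _)
        (f := fun W : Set (Equiv.Perm α) => {y | ∃ z ∈ W, y ∈ cl H z}))
      rintro _ ⟨x, hx, rfl⟩
      refine ⟨cl (stab H (g c)) x, ⟨x, hx, rfl⟩, ?_⟩
      ext y
      constructor
      · rintro ⟨z, ⟨j, hj, rfl⟩, hy⟩
        rwa [cl_eq H x hj.1] at hy
      · intro hy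
        exact ⟨x, ⟨1, Subgroup.one_mem _, by group⟩, hy⟩
  · push Not at hHc
    by_cases hu : ∀ h ∈ H, h (g⁻¹ c0) = g⁻¹ c0
    · have huc : g⁻¹ c0 ≠ c := fun he => by
        obtain ⟨h, hh, hne⟩ := hHc
        rw [← he] at hne
        exact hne (hu h hh)
      obtain ⟨h1R, S'⟩ := S.prepend (u := g⁻¹ c0) (by simp) hu huc
      have hE' := S'.rk_le
      refine le_trans (Nat.cast_le.2 (Set.ncard_le_ncard (Set.image_mono ?_) (Set.toFinite _)))
        (le_trans (hT h1R H g _ F c (g⁻¹ c0) (l + 1) m u hm S' (by omega))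
          (B.T_skip u (rk H) R l m hm (by omega) hRN hl))
      rintro x ⟨hx, hPT⟩
      refine ⟨hx, hPT.1, fun hut z hz => ?_⟩
      have hxu : x (g⁻¹ c0) = c0 := by rw [coset_apply hx hu]; simp
      rw [← per_apply x (g⁻¹ c0), hxu]
      exact hPT.2 hut z hz
    · push Not at hu
      obtain ⟨h, hh, hne⟩ := hu
      have hrk : rk (stab H c) + 1 ≤ rk H := by
        have := orbs_stab_lt H c hHc
        have := orbs_le (stab H c)
        unfold rk; omega
      obtain ⟨s, hs1, hs2, hs3⟩ := open_step B S m u hm ⟨h, hh, hne⟩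
        (if m ≤ l then B.D (rk (stab H c)) R (mm u l m) else 0)
        (by split_ifs <;> first | exact B.D_nonneg _ _ _ | exact le_rfl)
        (fun x0 hx0 hxc => close_case B S m u hm hD hx0 hxc) hT hl
      have hn := orbs_le (stab H c)
      have hlt := orbs_stab_lt H c hHc
      have hmax : max 1 s ≤ rk H := by unfold rk; omega
      have hE' : rk (stab H c) ≤ rk H - max 1 s := by unfold rk; omega
      refine hs3.trans (le_trans ?_ (B.T_step u (rk H) R l m s hm hmax hER hRN hl))
      refine add_le_add ?_ (mul_le_mul_of_nonneg_left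
        (T_mono' B hm hE' (by omega) (by omega) (by omega)) (Nat.cast_nonneg s))
      split_ifs with hml
      · exact D_mono' B (by unfold mm; split_ifs <;> omega) hE' (by omega) hRN
      · exact le_rfl

theorem bounds : ∀ R, R ≤ N → DBound α B R ∧ TBound α B R := by
  intro R
  induction R using Nat.strong_induction_on with
  | _ R ih =>
  intro hR
  have hD := dbound (α := α) B R hR fun h => (ih _ (by omega) (by omega)).2
  exact ⟨hD, tbound B R hR hD fun h => (ih _ (by omega) (by omega)).2⟩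

/-- classes of a transitive group: those with a fixed point, and those counted by cycles -/
theorem card_classes_le (H : Subgroup (Equiv.Perm α)) (c : α) (htr : ∀ a, ∃ h ∈ H, h c = a)
    (h2 : 2 ≤ Nat.card α) (hN : Nat.card α ≤ N + 2) :
    (Nat.card (ConjClasses H) : ℝ) ≤ Nat.card (ConjClasses (stab H c)) +
      ((orbs (stab H c) - 1 : ℕ) : ℝ) *
        B.T true (rk (stab H c)) (Nat.card α - 2) 2 2 := by
  classical
  set n := Nat.card α with hn
  set M := stab H c with hMdef
  have S : St H 1 ∅ ∅ c c 1 (n - 1) := first_state (fun k hk => by simpa using hk)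
    (fun _ _ z hz => absurd hz (Set.notMem_empty z)) (fun z => Iff.rfl) (Set.notMem_empty c)
    (by rw [Set.ncard_empty]; omega)
  haveI : Nontrivial α := Finite.one_lt_card_iff_nontrivial.1 (by omega)
  obtain ⟨a, ha⟩ := exists_ne c
  obtain ⟨ha0, hha, hac⟩ := htr a
  have hempty : ∀ x0, x0 ∈ coset H 1 → x0 c = c →
      (((cl M) '' {x ∈ coset M x0 | PT ∅ true 2 c x}).ncard : ℝ) ≤ 0 := by
    intro x0 _ hb0
    have : {x ∈ coset M x0 | PT ∅ true 2 c x} = ∅ := by
      refine Set.eq_empty_iff_forall_notMem.2 ?_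
      rintro x ⟨hx, hPT⟩
      have hxb : x c = c := by rw [coset_apply hx fun h hh => hh.2, hb0]
      have h1 : per x c ≤ 1 := Function.IsPeriodicPt.minimalPeriod_le one_pos
        ((periodic_iff x c 1).2 (by simpa using hxb))
      have := hPT.1 c (Set.notMem_empty c)
      omega
    rw [this, Set.image_empty, Set.ncard_empty, Nat.cast_zero]
  obtain ⟨s, -, hs2, hs3⟩ := open_step B S 2 true le_rfl
    ⟨ha0, hha, by simpa [hac] using ha⟩ 0 le_rfl hempty
    (fun _ => by rw [show n - 1 - 1 = n - 2 by omega]; exact (bounds B _ (by omega)).2) (by omega)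
  rw [zero_add, show n - 1 - 1 = n - 2 by omega, show (1 : ℕ) + 1 = 2 from rfl] at hs3
  have hder : (((cl M) '' {x ∈ coset H 1 | PT ∅ true 2 c x}).ncard : ℝ) ≤
      ((orbs M - 1 : ℕ) : ℝ) * B.T true (rk M) (n - 2) 2 2 :=
    hs3.trans (mul_le_mul_of_nonneg_right (Nat.cast_le.2 (by
      have : orbs (stab H c) = orbs M := rfl
      omega)) (B.T_nonneg _ _ _ _ _))
  -- split the classes
  haveI : Fintype α := Fintype.ofFinite α
  have hcls : ∀ q : ConjClasses H, (∃ y : M, ConjClasses.mk (⟨y, stab_le H c y.2⟩ : H) = q) ∨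
      ∃ x, x ∈ coset H 1 ∧ PT ∅ true 2 c x ∧ ∃ hx : x ∈ H, ConjClasses.mk (⟨x, hx⟩ : H) = q := by
    intro q
    obtain ⟨⟨x, hx⟩, rfl⟩ := ConjClasses.mk_surjective q
    obtain ⟨z, -, hmin⟩ := Finset.exists_min_image (Finset.univ : Finset α) (fun z => per x z)
      ⟨c, Finset.mem_univ _⟩
    obtain ⟨h, hh, hhc⟩ := htr z
    have hy : h⁻¹ * x * h ∈ H := H.mul_mem (H.mul_mem (H.inv_mem hh) hx) hh
    have hconj : ConjClasses.mk (⟨h⁻¹ * x * h, hy⟩ : H) = ConjClasses.mk ⟨x, hx⟩ :=
      ConjClasses.mk_eq_mk_iff_isConj.2 (isConj_iff.2 ⟨⟨h, hh⟩, Subtype.ext (by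
        show h * (h⁻¹ * x * h) * h⁻¹ = x
        group)⟩)
    have hper : ∀ w, per (h⁻¹ * x * h) w = per x (h w) := fun w => by
      have h1 := per_conj h (h⁻¹ * x * h) w
      rw [show h * (h⁻¹ * x * h) * h⁻¹ = x by group] at h1
      exact h1.symm
    by_cases hfx : (h⁻¹ * x * h) c = c
    · exact Or.inl ⟨⟨_, hy, hfx⟩, hconj⟩
    · refine Or.inr ⟨_, by show (1 : Equiv.Perm α)⁻¹ * _ ∈ H; simpa using hy, ⟨fun w _ => ?_,
        fun _ w _ => ?_⟩, hy, hconj⟩
      · have h1 : 2 ≤ per (h⁻¹ * x * h) c := by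
          by_contra hlt
          have h0 := per_pos (h⁻¹ * x * h) c
          have h1 : per (h⁻¹ * x * h) c = 1 := by omega
          have h2 := (periodic_iff (h⁻¹ * x * h) c _).1 (Function.isPeriodicPt_minimalPeriod _ _)
          rw [show Function.minimalPeriod (⇑(h⁻¹ * x * h)) c = 1 from h1, pow_one] at h2
          exact hfx h2
        rw [hper, hhc] at h1
        rw [hper]
        exact h1.trans (hmin _ (Finset.mem_univ _))
      · rw [hper, hper, hhc]; exact hmin _ (Finset.mem_univ _)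
  let r : Set (Equiv.Perm α) → ConjClasses H := fun W =>
    if h : ∃ x, x ∈ W ∧ x ∈ H then ConjClasses.mk ⟨h.choose, h.choose_spec.2⟩ else ConjClasses.mk 1
  let f : ConjClasses M → ConjClasses H := ConjClasses.map (Subgroup.inclusion (stab_le H c))
  have hcount : Nat.card (ConjClasses H) ≤
      Nat.card (ConjClasses M) + ((cl M) '' {x ∈ coset H 1 | PT ∅ true 2 c x}).ncard := by
    rw [← Set.ncard_univ, ← Set.ncard_univ (ConjClasses M)]
    refine le_trans (Set.ncard_le_ncard (t := f '' Set.univ ∪ r '' ((cl M) '' {x ∈ coset H 1 | PT ∅ true 2 c x}))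
      ?_ (Set.toFinite _)) ((Set.ncard_union_le _ _).trans
        (Nat.add_le_add (Set.ncard_image_le (Set.toFinite _)) (Set.ncard_image_le (Set.toFinite _))))
    intro q _
    rcases hcls q with ⟨y, hy⟩ | ⟨x, hx, hP, hxH, hq⟩
    · exact Or.inl ⟨ConjClasses.mk y, Set.mem_univ _, hy⟩
    · refine Or.inr ⟨cl M x, ⟨x, ⟨hx, hP⟩, rfl⟩, ?_⟩
      have he : ∃ y, y ∈ cl M x ∧ y ∈ H := ⟨x, ⟨1, M.one_mem, by group⟩, hxH⟩
      simp only [r, dif_pos he]
      obtain ⟨j, hj, hy⟩ := he.choose_spec.1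
      rw [← hq]
      exact ConjClasses.mk_eq_mk_iff_isConj.2 (IsConj.symm (isConj_iff.2
        ⟨⟨j, stab_le H c hj⟩, Subtype.ext hy.symm⟩))
  calc (Nat.card (ConjClasses H) : ℝ)
      ≤ Nat.card (ConjClasses M) + ((cl M) '' {x ∈ coset H 1 | PT ∅ true 2 c x}).ncard := by
        exact_mod_cast hcount
    _ ≤ _ := add_le_add le_rfl hder

end Cfsg.Agent.SqrtThree82
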