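import Mathlib
import Cfsg.Agent.ClassBound.Two

/-!
One step along a cycle when counting conjugacy classes of permutations along cycles.
-/

set_option autoImplicit false

namespace Cfsg.Agent.SqrtThree82

open MulAction Cfsg.Agent.ClassBound

variable {α : Type*} [Finite α]

/-- the length of the cycle through a point -/
noncomputable def per (x : Equiv.Perm α) (z : α) : ℕ := Function.minimalPeriod x z

lemma per_pos (x : Equiv.Perm α) (z : α) : 0 < per x z := by
  refine Function.minimalPeriod_pos_of_mem_periodicPts ⟨orderOf x, orderOf_pos x, ?_⟩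
  show (⇑x)^[orderOf x] z = z
  rw [← Equiv.Perm.coe_pow, pow_orderOf_eq_one]; rfl

lemma periodic_iff (x : Equiv.Perm α) (z : α) (n : ℕ) :
    Function.IsPeriodicPt x n z ↔ (x ^ n) z = z := by
  rw [Equiv.Perm.coe_pow]; rfl

lemma per_conj (k x : Equiv.Perm α) (z : α) : per (k * x * k⁻¹) (k z) = per x z := by
  refine Function.minimalPeriod_eq_minimalPeriod_iff.2 fun n => ?_
  rw [periodic_iff, periodic_iff, conj_pow]
  simp

lemma per_apply (x : Equiv.Perm α) (z : α) : per x (x z) = per x z := by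
  have := per_conj x x z
  rwa [mul_inv_cancel_right] at this

/-- permutations with no short cycle outside F -/
def Good (F : Set α) (m : ℕ) (x : Equiv.Perm α) : Prop := ∀ z, z ∉ F → m ≤ per x z

lemma good_conj {F : Set α} {m : ℕ} {x k : Equiv.Perm α} (hk : ∀ z ∈ F, k z = z) (hx : Good F m x) :
    Good F m (k * x * k⁻¹) := by
  intro z hz
  have h1 : per (k * x * k⁻¹) z = per x (k⁻¹ z) := by
    conv_lhs => rw [show z = k (k⁻¹ z) from (Equiv.apply_symm_apply k z).symm]
    exact per_conj k x _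
  rw [h1]
  refine hx _ fun h => hz ?_
  have := hk _ h
  rw [Equiv.Perm.coe_inv, Equiv.apply_symm_apply] at this
  rw [this]; exact h

lemma coset_apply {H : Subgroup (Equiv.Perm α)} {g x : Equiv.Perm α} (hx : x ∈ coset H g) {z : α}
    (hz : ∀ h ∈ H, h z = z) : x z = g z := by
  calc x z = g ((g⁻¹ * x) z) := by simp
    _ = g z := by rw [hz _ hx]

/-- orbit representatives of M in the K-orbit of w, other than the fixed point c0 moved by K -/
lemma orbs_grow_fixed (K M : Subgroup (Equiv.Perm α)) (hMK : M ≤ K) (w c0 : α)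
    (hM : ∀ m ∈ M, m c0 = c0) (hK : ∃ k ∈ K, k c0 ≠ c0) :
    Nat.card {q : orbitRel.Quotient M α //
      (Quotient.mk'' q.out : orbitRel.Quotient K α) = Quotient.mk'' w ∧ q ≠ Quotient.mk'' c0}
      + orbs K ≤ orbs M := by
  classical
  have hout : ∀ a : α, (Quotient.mk'' (Quotient.mk'' a : orbitRel.Quotient M α).out :
      orbitRel.Quotient K α) = Quotient.mk'' a := fun a => by
    obtain ⟨m, hm⟩ := Quotient.mk_out' (s₁ := orbitRel M α) a
    exact Quotient.eq''.2 ⟨⟨m, hMK m.2⟩, hm⟩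
  by_cases hw : (Quotient.mk'' c0 : orbitRel.Quotient K α) = Quotient.mk'' w
  · have h := orbs_grow K M hMK w
    haveI : Fintype {q : orbitRel.Quotient M α //
      (Quotient.mk'' q.out : orbitRel.Quotient K α) = Quotient.mk'' w} := Fintype.ofFinite _
    have h1 : Nat.card {q : orbitRel.Quotient M α //
      (Quotient.mk'' q.out : orbitRel.Quotient K α) = Quotient.mk'' w ∧ q ≠ Quotient.mk'' c0} <
      Nat.card {q : orbitRel.Quotient M α //
      (Quotient.mk'' q.out : orbitRel.Quotient K α) = Quotient.mk'' w} := by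
      haveI : Fintype {q : orbitRel.Quotient M α //
        (Quotient.mk'' q.out : orbitRel.Quotient K α) = Quotient.mk'' w ∧ q ≠ Quotient.mk'' c0} :=
        Fintype.ofFinite _
      rw [Nat.card_eq_fintype_card, Nat.card_eq_fintype_card]
      refine Fintype.card_lt_of_injective_of_notMem (fun q => ⟨q.1, q.2.1⟩) ?_
        (b := ⟨Quotient.mk'' c0, (hout c0).trans hw⟩) ?_
      · intro a b hab; exact Subtype.ext (congrArg (fun z => z.1) hab :)
      · rintro ⟨a, ha⟩; exact a.2.2 (congrArg Subtype.val ha)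
    omega
  · obtain ⟨k, hk, hkc⟩ := hK
    let F : orbitRel.Quotient M α → orbitRel.Quotient K α := fun q => Quotient.mk'' q.out
    have hF : Function.Surjective F := fun u => by
      induction u using Quotient.inductionOn' with
      | h a => exact ⟨Quotient.mk'' a, hout a⟩
    let s : orbitRel.Quotient K α → orbitRel.Quotient M α := Function.surjInv hF
    have hs : ∀ u, F (s u) = u := Function.surjInv_eq hF
    -- a second orbit of M inside the orbit of c0
    obtain ⟨e, heK, hes⟩ : ∃ e : orbitRel.Quotient M α, F e = Quotient.mk'' c0 ∧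
        e ≠ s (Quotient.mk'' c0) := by
      by_cases h : s (Quotient.mk'' c0) = Quotient.mk'' c0
      · refine ⟨Quotient.mk'' (k c0), (hout _).trans (Quotient.eq''.2 ⟨⟨k, hk⟩, rfl⟩), fun he => hkc ?_⟩
        obtain ⟨⟨m, hm⟩, hmc⟩ := Quotient.eq''.1 (he.trans h)
        rw [← hmc]; exact hM m hm
      · exact ⟨Quotient.mk'' c0, hout c0, fun he => h he.symm⟩
    let A := {q : orbitRel.Quotient M α //
      (Quotient.mk'' q.out : orbitRel.Quotient K α) = Quotient.mk'' w ∧ q ≠ Quotient.mk'' c0}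
    let B := {u : orbitRel.Quotient K α // u ≠ Quotient.mk'' w}
    let f : A ⊕ (B ⊕ Unit) → orbitRel.Quotient M α :=
      Sum.elim Subtype.val (Sum.elim (fun u => s u.1) (fun _ => e))
    have hA : ∀ q : A, F q.1 = Quotient.mk'' w := fun q => q.2.1
    have hf : Function.Injective f := by
      rintro (q | u | a) (q' | u' | a') h
      · exact congrArg Sum.inl (Subtype.ext h)
      · exact absurd (by rw [← hs u'.1, ← show (q.1 : _) = s u'.1 from h]; exact hA q) u'.2
      · exact absurd (by rw [← heK, ← show (q.1 : _) = e from h]; exact hA q) hw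
      · exact absurd (by rw [← hs u.1, show s u.1 = q'.1 from h]; exact hA q') u.2
      · refine congrArg Sum.inr (congrArg Sum.inl (Subtype.ext ?_))
        rw [← hs u.1, ← hs u'.1, show s u.1 = s u'.1 from h]
      · refine absurd ?_ hes
        rw [show e = s u.1 from h.symm]
        congr 1
        rw [← hs u.1, show s u.1 = e from h, heK]
      · exact absurd (by rw [← heK, show e = q'.1 from h]; exact hA q') hw
      · refine absurd ?_ hes
        rw [show e = s u'.1 from h]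
        congr 1
        rw [← hs u'.1, show s u'.1 = e from h.symm, heK]
      · rfl
    have h1 := Nat.card_le_card_of_injective f hf
    rw [Nat.card_sum, Nat.card_sum] at h1
    have h2 : Nat.card B + 1 = orbs K := by
      haveI : Fintype (orbitRel.Quotient K α) := Fintype.ofFinite _
      rw [orbs, Nat.card_eq_fintype_card, Nat.card_eq_fintype_card,
        Fintype.card_subtype_compl, Fintype.card_subtype_eq]
      have : 0 < Fintype.card (orbitRel.Quotient K α) := Fintype.card_pos_iff.2 ⟨Quotient.mk'' w⟩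
      omega
    have h3 : orbs M = Nat.card (orbitRel.Quotient M α) := rfl
    rw [Nat.card_unique (α := Unit)] at h1
    show Nat.card A + orbs K ≤ orbs M
    omega

lemma stab_le (H : Subgroup (Equiv.Perm α)) (c : α) : stab H c ≤ H := inf_le_left

lemma orbs_mono {M H : Subgroup (Equiv.Perm α)} (h : M ≤ H) : orbs H ≤ orbs M := by
  refine Nat.card_le_card_of_surjective
    (Quotient.map' id fun a b hab => ?_) ?_
  · obtain ⟨m, hm⟩ := hab
    exact ⟨⟨m, h m.2⟩, hm⟩
  · intro u
    induction u using Quotient.inductionOn' with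
    | h a => exact ⟨Quotient.mk'' a, rfl⟩

lemma orbs_stab_lt (H : Subgroup (Equiv.Perm α)) (c : α) (hc : ∃ h ∈ H, h c ≠ c) :
    orbs H < orbs (stab H c) := by
  classical
  obtain ⟨h, hh, hhc⟩ := hc
  haveI : Fintype (orbitRel.Quotient H α) := Fintype.ofFinite _
  haveI : Fintype (orbitRel.Quotient (stab H c) α) := Fintype.ofFinite _
  rw [orbs, orbs, Nat.card_eq_fintype_card, Nat.card_eq_fintype_card]
  let f : orbitRel.Quotient (stab H c) α → orbitRel.Quotient H α :=
    Quotient.map' id fun a b hab => by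
      obtain ⟨m, hm⟩ := hab
      exact ⟨⟨m, stab_le H c m.2⟩, hm⟩
  have hs : Function.Surjective f := by
    intro u
    induction u using Quotient.inductionOn' with
    | h a => exact ⟨Quotient.mk'' a, rfl⟩
  refine Fintype.card_lt_of_surjective_not_injective f hs fun hinj => hhc ?_
  have h2 : f (Quotient.mk'' (h c)) = f (Quotient.mk'' c) :=
    Quotient.eq''.2 ⟨⟨h, hh⟩, rfl⟩
  obtain ⟨⟨m, hm⟩, hmc⟩ := Quotient.eq''.1 (hinj h2)
  exact (show m c = h c from hmc).symm.trans hm.2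

/-- the moves from the endpoint c: close the cycle at c0 or continue to a representative -/
theorem step (H : Subgroup (Equiv.Perm α)) (g : Equiv.Perm α) (c c0 : α)
    (hg : ∀ m ∈ stab H c, g⁻¹ * m * g ∈ H) (hM : ∀ m ∈ stab H c, m c0 = c0)
    (hK : ∃ h ∈ H, h (g⁻¹ c0) ≠ g⁻¹ c0)
    (P : Equiv.Perm α → Prop)
    (hP : ∀ m ∈ stab H c, ∀ x, P x → P (m * x * m⁻¹))
    (fT fD : ℝ) (hD0 : 0 ≤ fD)
    (hclose : ∀ x0, x0 ∈ coset H g → x0 c = c0 →
      (((cl (stab H c)) '' {x ∈ coset (stab H c) x0 | P x}).ncard : ℝ) ≤ fD)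
    (hchild : ∀ x0 d, x0 ∈ coset H g → x0 c = d → d ≠ c0 →
      (∀ m ∈ stab (stab H c) d, x0⁻¹ * m * x0 ∈ stab H c) →
      (((cl (stab (stab H c) d)) '' {x ∈ coset (stab H c) x0 | P x}).ncard : ℝ) ≤ fT) :
    ∃ s : ℕ, s + orbs H ≤ orbs (stab H c) ∧ s < orbs (stab H c) ∧
      (((cl (stab H c)) '' {x ∈ coset H g | P x}).ncard : ℝ) ≤ fD + s * fT := by
  classical
  set M := stab H c with hMdef
  let K : Subgroup (Equiv.Perm α) := H.map (MulAut.conj g).toMonoidHom
  have hKmem : ∀ x, x ∈ K ↔ g⁻¹ * x * g ∈ H := fun x => by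
    show x ∈ H.map (MulAut.conj g).toMonoidHom ↔ _
    constructor
    · rintro ⟨y, hy, rfl⟩
      simpa [mul_assoc] using hy
    · intro hx
      exact ⟨g⁻¹ * x * g, hx, by simp [mul_assoc]⟩
  have hMK : M ≤ K := fun m hm => (hKmem m).2 (hg m hm)
  let D := {q : orbitRel.Quotient M α //
    (Quotient.mk'' q.out : orbitRel.Quotient K α) = Quotient.mk'' (g c) ∧ q ≠ Quotient.mk'' c0}
  have hKc0 : ∃ k ∈ K, k c0 ≠ c0 := by
    obtain ⟨h, hh, hhc⟩ := hK
    refine ⟨g * h * g⁻¹, (hKmem _).2 (by simpa [mul_assoc] using hh), fun he => hhc ?_⟩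
    have he' : g (h (g⁻¹ c0)) = c0 := he
    apply g.injective
    rw [he']
    simp
  refine ⟨Nat.card D, ?_, ?_, ?_⟩
  · rw [← orbs_conj H K g hKmem]
    exact orbs_grow_fixed K M hMK (g c) c0 hM hKc0
  · haveI : Fintype D := Fintype.ofFinite D
    haveI : Fintype (orbitRel.Quotient M α) := Fintype.ofFinite _
    rw [orbs, Nat.card_eq_fintype_card, Nat.card_eq_fintype_card]
    exact Fintype.card_lt_of_injective_of_notMem (fun q : D => q.1) Subtype.val_injective
      (b := Quotient.mk'' c0) (by rintro ⟨a, ha⟩; exact a.2.2 ha)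
  haveI : Fintype D := Fintype.ofFinite D
  have hreach : ∀ d : D, ∃ x ∈ coset H g, x c = d.1.out := by
    intro d
    obtain ⟨⟨k, hk⟩, hkd⟩ := Quotient.eq''.1 d.2.1
    refine ⟨k * g, ?_, hkd⟩
    show g⁻¹ * (k * g) ∈ H
    rw [← mul_assoc]
    exact (hKmem k).1 hk
  choose xd hxd hxdc using hreach
  let piece : D → Set (Set (Equiv.Perm α)) := fun d =>
    (fun Z : Set (Equiv.Perm α) => {y | ∃ z ∈ Z, y ∈ cl M z}) ''
      ((cl (stab M d.1.out)) '' {x ∈ coset M (xd d) | P x})
  let C0 : Set (Set (Equiv.Perm α)) := (cl M) '' {x ∈ coset H g | P x ∧ x c = c0}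
  have sub_coset : ∀ x y, x ∈ coset H g → y ∈ coset H g → x c = y c → y ∈ coset M x := by
    intro x y hx hy hxy
    refine ⟨?_, ?_⟩
    · rw [show x⁻¹ * y = (g⁻¹ * x)⁻¹ * (g⁻¹ * y) by group]
      exact H.mul_mem (H.inv_mem hx) hy
    · show (x⁻¹ * y) c = c
      rw [Equiv.Perm.mul_apply, ← hxy]
      simp
  have hsub : (cl M) '' {x ∈ coset H g | P x} ⊆ C0 ∪ ⋃ d ∈ (Finset.univ : Finset D), piece d := by
    rintro _ ⟨x, ⟨hx, hPx⟩, rfl⟩
    by_cases hxc : x c = c0
    · exact Or.inl ⟨x, ⟨hx, hPx, hxc⟩, rfl⟩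
    refine Or.inr ?_
    let q : orbitRel.Quotient M α := Quotient.mk'' (x c)
    obtain ⟨m, hm⟩ := Quotient.mk_out' (s₁ := orbitRel M α) (x c)
    have hxK : (x * g⁻¹) ∈ K := (hKmem _).2 (by
      rw [show g⁻¹ * (x * g⁻¹) * g = g⁻¹ * x by group]; exact hx)
    have hm' : (m : Equiv.Perm α) (x c) = q.out := hm
    have hq : (Quotient.mk'' q.out : orbitRel.Quotient K α) = Quotient.mk'' (g c) ∧
        q ≠ Quotient.mk'' c0 := by
      refine ⟨Quotient.eq''.2 ⟨⟨(m : Equiv.Perm α) * (x * g⁻¹), K.mul_mem (hMK m.2) hxK⟩, ?_⟩, ?_⟩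
      · show ((m : Equiv.Perm α) * (x * g⁻¹)) (g c) = q.out
        rw [← hm']
        simp
      · intro he
        obtain ⟨⟨k, hk⟩, hkc⟩ := Quotient.eq''.1 he
        exact hxc (by rw [← (show k c0 = x c from hkc)]; exact hM k hk)
    rw [Set.mem_iUnion₂]
    refine ⟨⟨q, hq⟩, Finset.mem_univ _, ?_⟩
    let x' := (m : Equiv.Perm α) * x * (m : Equiv.Perm α)⁻¹
    have hx'c : x' c = q.out := by
      have hmc : (m : Equiv.Perm α)⁻¹ c = c := (M.inv_mem m.2).2
      show ((m : Equiv.Perm α) * x * (m : Equiv.Perm α)⁻¹) c = q.out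
      rw [Equiv.Perm.mul_apply, Equiv.Perm.mul_apply, hmc]
      exact hm'
    have hx'H : x' ∈ coset H g := by
      show g⁻¹ * ((m : Equiv.Perm α) * x * (m : Equiv.Perm α)⁻¹) ∈ H
      rw [show g⁻¹ * ((m : Equiv.Perm α) * x * (m : Equiv.Perm α)⁻¹) =
        (g⁻¹ * (m : Equiv.Perm α) * g) * (g⁻¹ * x) * (m : Equiv.Perm α)⁻¹ by group]
      exact H.mul_mem (H.mul_mem (hg m m.2) hx) (H.inv_mem (stab_le H c m.2))
    have hx'M : x' ∈ coset M (xd ⟨q, hq⟩) :=
      sub_coset _ _ (hxd _) hx'H ((hxdc _).trans hx'c.symm)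
    refine ⟨cl (stab M q.out) x', ⟨x', ⟨hx'M, hP m m.2 x hPx⟩, rfl⟩, ?_⟩
    have hcm := cl_eq M x m.2
    ext y
    constructor
    · rintro ⟨z, ⟨k, hk, rfl⟩, hy⟩
      rwa [cl_eq M x' hk.1, hcm] at hy
    · intro hy
      refine ⟨x', ⟨1, Subgroup.one_mem _, by group⟩, ?_⟩
      show y ∈ cl M ((m : Equiv.Perm α) * x * (m : Equiv.Perm α)⁻¹)
      rwa [hcm]
  have hpiece : ∀ d : D, ((piece d).ncard : ℝ) ≤ fT := by
    intro d
    refine le_trans (Nat.cast_le.2 (Set.ncard_image_le (Set.toFinite _))) ?_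
    refine hchild (xd d) d.1.out (hxd d) (hxdc d) ?_ ?_
    · intro he
      exact d.2.2 ((Quotient.out_eq' d.1).symm.trans (congrArg Quotient.mk'' he))
    intro m hm
    refine ⟨?_, ?_⟩
    · rw [show (xd d)⁻¹ * m * xd d = (g⁻¹ * xd d)⁻¹ * (g⁻¹ * m * g) * (g⁻¹ * xd d) by group]
      exact H.mul_mem (H.mul_mem (H.inv_mem (hxd d)) (hg m hm.1)) (hxd d)
    · show ((xd d)⁻¹ * m * xd d) c = c
      rw [Equiv.Perm.mul_apply, Equiv.Perm.mul_apply, hxdc, show m d.1.out = d.1.out from hm.2,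
        ← hxdc d]
      simp
  have hC0 : (C0.ncard : ℝ) ≤ fD := by
    rcases Set.eq_empty_or_nonempty C0 with h | ⟨_, x0, ⟨hx0, -, hx0c⟩, rfl⟩
    · rw [h, Set.ncard_empty, Nat.cast_zero]; exact hD0
    refine le_trans (Nat.cast_le.2 (Set.ncard_le_ncard ?_ (Set.toFinite _))) (hclose x0 hx0 hx0c)
    rintro _ ⟨y, ⟨hy, hPy, hyc⟩, rfl⟩
    exact ⟨y, ⟨sub_coset _ _ hx0 hy (hx0c.trans hyc.symm), hPy⟩, rfl⟩
  calc (((cl M) '' {x ∈ coset H g | P x}).ncard : ℝ)
      ≤ ((C0.ncard + ∑ d : D, (piece d).ncard : ℕ) : ℝ) := Nat.cast_le.2 (by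
        refine (Set.ncard_le_ncard hsub (Set.toFinite _)).trans ((Set.ncard_union_le _ _).trans ?_)
        exact Nat.add_le_add_left (Finset.set_ncard_biUnion_le Finset.univ piece) _)
    _ = (C0.ncard : ℝ) + ∑ d : D, ((piece d).ncard : ℝ) := by push_cast; ring
    _ ≤ fD + ∑ d : D, fT := add_le_add hC0 (Finset.sum_le_sum fun d _ => hpiece d)
    _ = fD + Nat.card D * fT := by
        rw [Finset.sum_const, Finset.card_univ, nsmul_eq_mul, Nat.card_eq_fintype_card (α := D)]

end Cfsg.Agent.SqrtThree82
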