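import Mathlib
import Cfsg.Agent.ClassBound.PWeight
import Cfsg.Agent.SqrtThree82.Step
import Cfsg.Agent.S4201

/-!
Conjugacy classes of intransitive permutation groups.
-/

set_option autoImplicit false

universe u

namespace Cfsg.Agent.SqrtThree82

open MulAction Cfsg.Agent.ClassBound

lemma card_classes_congr {G G' : Type*} [Group G] [Group G'] (e : G ≃* G') :
    Nat.card (ConjClasses G) = Nat.card (ConjClasses G') := by
  refine Nat.card_eq_of_bijective (ConjClasses.map e.toMonoidHom) ⟨?_, ?_⟩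
  · intro a b h
    obtain ⟨x, rfl⟩ := ConjClasses.mk_surjective a
    obtain ⟨y, rfl⟩ := ConjClasses.mk_surjective b
    obtain ⟨c, hc⟩ := isConj_iff.1 (ConjClasses.mk_eq_mk_iff_isConj.1 h)
    refine ConjClasses.mk_eq_mk_iff_isConj.2 (isConj_iff.2 ⟨e.symm c, e.injective ?_⟩)
    simpa using hc
  · intro a
    obtain ⟨x, rfl⟩ := ConjClasses.mk_surjective a
    exact ⟨ConjClasses.mk (e.symm x), congrArg ConjClasses.mk (e.apply_symm_apply x)⟩

lemma orbs_eq_norb {X : Type*} [Finite X] (H : Subgroup (Equiv.Perm X)) : orbs H = norb H X := rfl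

/-- an invariant set splits the classes -/
theorem split_le {X : Type u} [Finite X] (H : Subgroup (Equiv.Perm X)) (A : SubMulAction H X) :
    ∃ (QA : Subgroup (Equiv.Perm A)) (QB : Subgroup (Equiv.Perm (compl' A))),
      norb H (compl' A) ≤ orbs QB ∧
      Nat.card (ConjClasses H) ≤ Nat.card (ConjClasses QA) * Nat.card (ConjClasses QB) := by
  let fA := MulAction.toPermHom H A
  let fB := MulAction.toPermHom H (compl' A)
  refine ⟨fA.range, fA.ker.map fB, ?_, ?_⟩
  · refine le_trans ?_ (orbs_mono (Subgroup.map_le_range fB fA.ker))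
    rw [orbs_eq_norb, norb_range]
  · refine (Cfsg.Agent.S4201.result fA.ker).trans ?_
    rw [mul_comm, card_classes_congr (QuotientGroup.quotientKerEquivRange fA)]
    refine Nat.mul_le_mul_left _ (le_of_eq (card_classes_congr (MulEquiv.ofBijective (fB.subgroupMap fA.ker)
      ⟨?_, fB.subgroupMap_surjective fA.ker⟩)))
    intro a b hab
    have hinj : Function.Injective (MulAction.toPermHom H X) := fun p q h => Subtype.ext h
    refine Subtype.ext (restrictHom_inj A hinj ?_)
    refine Prod.ext ?_ (congrArg Subtype.val hab)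
    exact (MonoidHom.mem_ker.1 a.2).trans (MonoidHom.mem_ker.1 b.2).symm

/-- a one-orbit invariant set -/
def orbitSet {X : Type*} (H : Subgroup (Equiv.Perm X)) (c : X) : SubMulAction H X where
  carrier := orbit H c
  smul_mem' := fun h y hy => by
    obtain ⟨k, rfl⟩ := hy
    exact ⟨h * k, mul_smul h k c⟩

lemma norb_orbitSet {X : Type*} [Finite X] (H : Subgroup (Equiv.Perm X)) (c : X) :
    norb H (orbitSet H c) ≤ 1 := by
  rw [norb, Finite.card_le_one_iff_subsingleton]
  refine ⟨fun p q => ?_⟩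
  induction p using Quotient.inductionOn' with
  | h a =>
    induction q using Quotient.inductionOn' with
    | h b =>
      obtain ⟨⟨_, k, rfl⟩, ⟨_, l, rfl⟩⟩ := a, b
      exact Quotient.eq''.2 ⟨k * l⁻¹, Subtype.ext (by
        show (k * l⁻¹) • (l • c) = k • c
        rw [mul_smul, inv_smul_smul])⟩

/-- groups with r orbits -/
theorem prod_bound (N : ℕ) (b : ℕ → ℝ) (f : ℕ → ℕ → ℝ) (hb0 : ∀ a, 0 ≤ b a)
    (hf1 : ∀ m, 1 ≤ m → m ≤ N → b m ≤ f m 1)
    (hf : ∀ a m r, 1 ≤ a → 1 ≤ r → r ≤ m → a + m ≤ N → b a * f m r ≤ f (a + m) (r + 1))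
    (hb : ∀ (X : Type u) [Finite X] (H : Subgroup (Equiv.Perm X)), 1 ≤ Nat.card X → Nat.card X ≤ N →
      (Nat.card (ConjClasses H) : ℝ) ≤ b (Nat.card X)) :
    ∀ (n : ℕ) (X : Type u) [Finite X] (H : Subgroup (Equiv.Perm X)) (r : ℕ), Nat.card X = n → n ≤ N →
      1 ≤ r → r ≤ orbs H → (Nat.card (ConjClasses H) : ℝ) ≤ f n r := by
  intro n
  induction n using Nat.strong_induction_on with
  | _ n ih =>
  intro X _ H r hX hN hr hrH
  have horb : orbs H ≤ Nat.card X :=
    Nat.card_le_card_of_surjective (fun x => Quotient.mk'' x) Quotient.mk''_surjective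
  rcases Nat.lt_or_ge r 2 with h | h
  · obtain rfl : r = 1 := by omega
    exact (hb X H (by omega) (by omega)).trans (hX ▸ hf1 n (by omega) hN)
  obtain ⟨r', rfl⟩ : ∃ r', r = r' + 1 := ⟨r - 1, by omega⟩
  haveI : Nonempty X := (Nat.card_pos_iff.1 (by omega)).1
  let c : X := Classical.arbitrary X
  obtain ⟨QA, QB, hQB, hle⟩ := split_le H (orbitSet H c)
  have h1 := norb_split (orbitSet H c) (H := H)
  have h2 := norb_orbitSet H c
  rw [← orbs_eq_norb] at h1
  have hs := card_split (orbitSet H c)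
  have hA : 1 ≤ Nat.card (orbitSet H c) :=
    Nat.card_pos_iff.2 ⟨⟨⟨c, mem_orbit_self c⟩⟩, inferInstance⟩
  have hr' : r' ≤ orbs QB := by omega
  have hB : orbs QB ≤ Nat.card (compl' (orbitSet H c)) :=
    Nat.card_le_card_of_surjective (fun x => Quotient.mk'' x) Quotient.mk''_surjective
  have h3 := hb _ QA hA (by omega)
  have h4 := ih _ (by omega) _ QB r' rfl (by omega) (by omega) hr'
  calc (Nat.card (ConjClasses H) : ℝ)
      ≤ (Nat.card (ConjClasses QA) : ℝ) * Nat.card (ConjClasses QB) := by exact_mod_cast hle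
    _ ≤ b (Nat.card (orbitSet H c)) * f (Nat.card (compl' (orbitSet H c))) r' :=
        mul_le_mul h3 h4 (Nat.cast_nonneg _) (hb0 _)
    _ ≤ f (Nat.card (orbitSet H c) + Nat.card (compl' (orbitSet H c))) (r' + 1) :=
        hf _ _ _ hA (by omega) (by omega) (by omega)
    _ = f n (r' + 1) := by rw [hs, hX]

/-- a group fixing a point acts on the other points -/
theorem fixed_point_le {X : Type u} [Finite X] (M : Subgroup (Equiv.Perm X)) (c : X)
    (hM : ∀ m ∈ M, m c = c) :
    ∃ (Y : Type u) (_ : Finite Y) (Q : Subgroup (Equiv.Perm Y)), Nat.card Y + 1 = Nat.card X ∧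
      orbs M ≤ orbs Q + 1 ∧ Nat.card (ConjClasses M) ≤ Nat.card (ConjClasses Q) := by
  obtain ⟨QA, QB, hQB, hle⟩ := split_le M (orbitSet M c)
  have hsub : ∀ z : orbitSet M c, (z : X) = c := by
    rintro ⟨z, k, rfl⟩
    exact hM k k.2
  haveI : Subsingleton (orbitSet M c) := ⟨fun a b => Subtype.ext ((hsub a).trans (hsub b).symm)⟩
  have hA : Nat.card (orbitSet M c) = 1 :=
    Nat.card_eq_one_iff_unique.2 ⟨inferInstance, ⟨⟨c, mem_orbit_self c⟩⟩⟩
  have hone : Nat.card (ConjClasses QA) ≤ 1 := by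
    rw [Finite.card_le_one_iff_subsingleton]
    refine ⟨fun p q => ?_⟩
    obtain ⟨a, rfl⟩ := ConjClasses.mk_surjective p
    obtain ⟨b, rfl⟩ := ConjClasses.mk_surjective q
    rw [show a = b from Subsingleton.elim _ _]
  refine ⟨compl' (orbitSet M c), inferInstance, QB, ?_, ?_, ?_⟩
  · have := card_split (orbitSet M c); omega
  · have h1 := norb_split (orbitSet M c) (H := M)
    have h2 := norb_orbitSet M c
    rw [← orbs_eq_norb] at h1
    omega
  · exact hle.trans (le_trans (Nat.mul_le_mul_right _ hone) (le_of_eq (one_mul _)))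

end Cfsg.Agent.SqrtThree82
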